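import Cfsg.Agent.Mrg.Omega.OM.Lev.Main
import Cfsg.Agent.Mrg.Omega.OM.SwapL.Off
import Cfsg.Agent.Mrg.Omega.OM.FourF.Mod
import Cfsg.Agent.ZN.CaseTwo

section


/-!
# THEOREM SWQ (#21705): the ground frame at stage `n` with coordinates, any `q`

* `DtL S P n M L Z A` : `SwapL.Ln`, `Bg` and the coordinates of `NatC`; `exists_dtl`;
* `DtL.cd`, `DtL.nm`, `DtL.exists_md` : the coordinates are `YThm.Cd`, `FourF.MD`;
* `DtL.cover`, `DtL.conj_ZJ` : an element of `⟨W i : i ∈ r⟩` is conjugate under `⟨L i : i ∈ r⟩` to an element of `Z_J`.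
-/

set_option autoImplicit false
set_option linter.unusedSectionVars false

namespace Cfsg.Agent.Omega.OM.SWQ

open Subgroup Cfsg Cfsg.Agent.ZN.ChoiceBase Cfsg.Agent.ZN.ChoiceSit
open Cfsg.Agent.ZN (jj zj bau zc zl o2)
open Cfsg.Agent.Lib.SL2Mat Cfsg.Agent.Omega.NatPair
open Cfsg.Agent.Omega.FFThm (NatK NatKM ActsSL)
open Cfsg.Agent.Omega.FrameFF (cv)
open Cfsg.Agent.Omega.NO3S (HypN)
open Cfsg.Agent.Omega.NO3S.OneLine (NatC)
open Cfsg.Agent.Omega.NO3S.Level (lev)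
open Cfsg.Agent.Omega.NO3S.EThree.Frame (Bg)
open Cfsg.Agent.Omega.OM.Lev.Nat
open Cfsg.Agent.Omega.OM.SwapL (Ln BL ZL lb)
open Cfsg.Agent.Omega.OM.YThm

universe u

variable {G : Type u} [Group G] [Finite G]

/-- The ground frame at stage `n`, with coordinates. -/
structure DtL {F : Type} [Field F] (S : Sylow 2 G) (P : Subgroup G) (n : ℕ) {k : ℕ}
    (M : NatC F (S : Subgroup G) P (zl (S : Subgroup G) P) (cv (S : Subgroup G) P) k)
    (L Z A : Fin k → Subgroup G) : Prop where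
  ln : Ln S P n L (Wn M) Z (Cn M) A (Nat.card F)
  bg : Bg S P (BL (S : Subgroup G) n) (ZL (S : Subgroup G) n) L (Wn M) Z (Cn M) (Nat.card F)
  LX : ∀ i, L i ≤ Xn M i
  acts : ∀ i A', ∃ l ∈ L i, ∃ A'', M.Acts l A'' ∧ A'' i = A'
  memZ : ∀ i v, v ∈ Z i ↔ v ∈ Wn M i ∧ M.nat.e v i 1 = 0
  memJ : ∀ v, v ∈ ZL (S : Subgroup G) n ↔ v ∈ zl (S : Subgroup G) P ∧ ∀ i, M.nat.e v i 1 = 0

variable {S : Sylow 2 G} {P : Subgroup G} {n : ℕ} {F : Type} [Field F] {k : ℕ}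

theorem exists_dtl [Finite F] [CharP F 2] (h : HypN S P) (hn : lev (S : Subgroup G) n ≤ o2 P)
    (hn1 : ¬ lev (S : Subgroup G) (n + 1) ≤ o2 P) (hk : 2 ≤ k)
    (N : NatKM F (S : Subgroup G) P (zl (S : Subgroup G) P) (cv (S : Subgroup G) P) k) :
    ∃ (M : NatC F (S : Subgroup G) P (zl (S : Subgroup G) P) (cv (S : Subgroup G) P) k)
      (L Z A : Fin k → Subgroup G), M.nat = N.toNatK ∧ DtL S P n M L Z A := by
  obtain ⟨M, L, Z, A, e, hFr, hB, -, h1, h2, h3, h4⟩ := Lev.Main.bg_lev h hn hn1 hk N rfl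
  exact ⟨M, L, Z, A, e, ⟨h, hn, hFr, hB.two⟩, hB, h1, h2, h3, h4⟩

variable {M : NatC F (S : Subgroup G) P (zl (S : Subgroup G) P) (cv (S : Subgroup G) P) k}
  {L Z A : Fin k → Subgroup G} (D : DtL S P n M L Z A)

include D

namespace DtL

theorem SP : (S : Subgroup G) ≤ P := D.ln.hyp.toHyp.syl.1

theorem syl : Syl (S : Subgroup G) P := D.ln.hyp.toHyp.syl

theorem LP (i : Fin k) : L i ≤ P := fun _ hl => (D.LX i hl).1

theorem k_pos : 0 < k := M.pos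

theorem inj {v w : G} (hv : v ∈ zl (S : Subgroup G) P) (hw : w ∈ zl (S : Subgroup G) P)
    (he : M.nat.e v = M.nat.e w) : v = w := by
  have h1 : v * w⁻¹ = 1 := by
    refine D.ln.fr.C0 _ (mul_mem hv (inv_mem hw)) fun i => ⟨mul_mem hv (inv_mem hw), ?_⟩
    rw [M.map_div hv hw, he, sub_self]
    rfl
  exact mul_inv_eq_one.1 h1

theorem cB {b z : G} (hb : b ∈ BL (S : Subgroup G) n) (hz : z ∈ ZL (S : Subgroup G) n) : b * z = z * b :=
  ((D.ln.fr.mem_ZJ z).1 hz).2 b hb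

theorem BS : BL (S : Subgroup G) n ≤ (S : Subgroup G) := (lb S n).BS

theorem mem_B {t : G} (ht : t ∈ (S : Subgroup G)) (hc : ∀ z ∈ ZL (S : Subgroup G) n, t * z = z * t) :
    t ∈ BL (S : Subgroup G) n :=
  ⟨ht, mem_centralizer_iff.2 fun z hz => (hc z hz).symm⟩

theorem up_of [Finite F] [CharP F 2] {b : G} (hb : b ∈ BL (S : Subgroup G) n) :
    ∃ c : Fin k → F, M.Acts b fun i => up (c i) :=
  exists_up M D.syl (D.BS hb) fun v hv hv1 => D.cB hb ((D.memJ v).2 ⟨hv, hv1⟩)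

theorem exists_b (c : Fin k → F) : ∃ b ∈ BL (S : Subgroup G) n, M.Acts b fun i => up (c i) := by
  obtain ⟨t, ht, hA, -⟩ := M.nat.unip c
  refine ⟨t, D.mem_B ht fun z hz => ?_, hA⟩
  obtain ⟨hz1, hz2⟩ := (D.memJ z).1 hz
  refine mul_inv_eq_iff_eq_mul.1 (D.inj (M.Vn t (D.SP ht) z hz1) hz1 ?_)
  funext j
  rw [hA z hz1 j]
  apply ext2
  · rw [ap_zero', up_00, up_01, hz2 j]; ring
  · rw [ap_one', up_10, up_11]; ring

omit [Finite G] D in
theorem e_up {b : G} {c : Fin k → F} (hc : M.Acts b fun i => up (c i)) {v : G} (hv : v ∈ zl (S : Subgroup G) P)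
    (i : Fin k) : M.nat.e (b * v * b⁻¹) i 0 = M.nat.e v i 0 + c i * M.nat.e v i 1 ∧
      M.nat.e (b * v * b⁻¹) i 1 = M.nat.e v i 1 := by
  rw [hc v hv i]
  constructor
  · rw [ap_zero', up_00, up_01, one_mul]
  · rw [ap_one', up_10, up_11, zero_mul, one_mul, zero_add]

/-- The coordinates are `Cd`. -/
theorem cd [Finite F] [CharP F 2] :
    Cd F (BL (S : Subgroup G) n) (zl (S : Subgroup G) P) (ZL (S : Subgroup G) n) k M.nat.e where
  VV := fun v hv w hw => D.ln.fr.Vc hv hw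
  mul := M.nat.mul
  surj := M.nat.surj
  inj := fun v hv h0 => D.inj hv (one_mem _) (by rw [h0, M.map_one])
  ZV := D.ln.fr.ZJV
  memZ := fun v hv => ⟨fun h => ((D.memJ v).1 h).2, fun h => (D.memJ v).2 ⟨hv, h⟩⟩
  nB := fun b hb v hv => M.Vn b (D.SP (D.BS hb)) v hv
  act := fun b hb => by
    obtain ⟨c, hc⟩ := D.up_of hb
    exact ⟨c, fun v hv i => e_up hc hv i⟩
  full := fun c => by
    obtain ⟨b, hb, hc⟩ := D.exists_b c
    exact ⟨b, hb, fun v hv i => e_up hc hv i⟩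

/-- `N_G(B)` acts by `Nm`. -/
theorem nm [Finite F] [CharP F 2] {g : G} (hg : g ∈ normalizer (BL (S : Subgroup G) n : Set G)) :
    Nm (BL (S : Subgroup G) n) (zl (S : Subgroup G) P) M.nat.e g := by
  have c := D.cd
  obtain ⟨h1, h2⟩ := D.ln.norm hg
  refine ⟨fun v hv => ?_, fun b hb => (mem_normalizer_iff.1 hg b).1 hb, fun i => ?_⟩
  · rw [← h1]
    exact ⟨v, hv, rfl⟩
  obtain ⟨j, h3, h4⟩ := h2 i
  refine ⟨j, fun z hz hzl hz1 => ?_, fun w hw hwl l hl => ?_⟩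
  · have h5 : z ∈ Z i := (D.memZ i z).2 ⟨⟨hz, hzl⟩, hz1⟩
    have h6 : g * z * g⁻¹ ∈ Z j := by
      rw [← h3]; exact ⟨z, h5, rfl⟩
    obtain ⟨h7, h8⟩ := (D.memZ j _).1 h6
    exact ⟨h7.2, h8⟩
  · have h5 : w ∈ Wn M i := ⟨hw, hwl⟩
    have h6 : g * w * g⁻¹ ∈ Wn M j ⊔ ZL (S : Subgroup G) n := h4 ⟨w, h5, rfl⟩
    have hle : ZL (S : Subgroup G) n ≤ zl (S : Subgroup G) P := c.ZV
    have hcom : ∀ a ∈ ZL (S : Subgroup G) n, ∀ b ∈ Wn M j, a * b = b * a := fun a ha b hb =>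
      c.VV a (hle ha) b hb.1
    obtain ⟨x, hx, z, hz, e⟩ := SQ1.Bau.mem_sup_comm hcom (by rw [sup_comm]; exact h6)
    rw [e, c.mul x (hle hx) z hz.1, Pi.add_apply, Pi.add_apply,
      hz.2 l hl, (c.memZ x (hle hx)).1 hx l]
    simp

theorem S_norm : (S : Subgroup G) ≤ normalizer (BL (S : Subgroup G) n : Set G) :=
  (lb S n).two_le S.isPGroup' D.BS

theorem P_norm : P ≤ normalizer (zl (S : Subgroup G) P : Set G) := by
  intro p hp
  rw [mem_normalizer_iff_cj]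
  refine Subgroup.eq_of_le_of_card_ge ?_ (by rw [card_cj])
  rintro _ ⟨v, hv, rfl⟩
  exact M.Vn p hp v hv

/-- The module data of helper87. -/
theorem exists_md [Finite F] [CharP F 2] : ∃ z₀ f₀ : Fin k → F,
    FourF.MD M.nat (BL (S : Subgroup G) n) (ZL (S : Subgroup G) n) (Wn M) Z z₀ f₀ := by
  obtain ⟨z₀, f₀, h1, h2, h3⟩ := D.cd.exists_cn D.k_pos S.isPGroup' (fun _ hs => D.nm (D.S_norm hs)) M.nat.trans
  exact ⟨z₀, f₀, D.P_norm, D.SP, h1, h2, h3, fun i v => Iff.rfl, D.memZ⟩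

/-! ### Conjugation into `Z_J` -/

theorem Z_W (i : Fin k) : Z i ≤ Wn M i := fun z hz => ((D.memZ i z).1 hz).1

theorem mem_Z_iff {i : Fin k} {v : G} : v ∈ Z i ↔ v ∈ ZL (S : Subgroup G) n ∧ ∀ j, j ≠ i → M.nat.e v j = 0 := by
  rw [D.memZ]
  constructor
  · rintro ⟨⟨h1, h2⟩, h3⟩
    refine ⟨(D.memJ v).2 ⟨h1, fun j => ?_⟩, h2⟩
    by_cases hj : j = i
    · rw [hj]; exact h3
    · rw [h2 j hj]; rfl
  · rintro ⟨h1, h2⟩
    exact ⟨⟨((D.memJ v).1 h1).1, h2⟩, ((D.memJ v).1 h1).2 i⟩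

/-- one step -/
theorem step (i : Fin k) {v : G} (hv : v ∈ zl (S : Subgroup G) P) : ∃ l ∈ L i, M.nat.e (l * v * l⁻¹) i 1 = 0 ∧
    ∀ j, j ≠ i → M.nat.e (l * v * l⁻¹) j 1 = M.nat.e v j 1 ∧ (M.nat.e v j = 0 → M.nat.e (l * v * l⁻¹) j = 0) := by
  by_cases h0 : M.nat.e v i = 0
  · refine ⟨1, one_mem _, ?_, fun j hj => ?_⟩
    · rw [one_mul, inv_one, mul_one, h0]; rfl
    · rw [one_mul, inv_one, mul_one]; exact ⟨rfl, fun h => h⟩
  · have hne : (![1, 0] : Fin 2 → F) ≠ 0 := by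
      intro h1
      have := congrFun h1 0
      simp at this
    obtain ⟨B, hB⟩ := exists_ap h0 hne
    obtain ⟨l, hl, A'', hA, hAi⟩ := D.acts i B
    obtain ⟨hlP, A', hA', hup⟩ := D.LX i hl
    refine ⟨l, hl, ?_, fun j hj => ?_⟩
    · rw [hA v hv i, hAi, hB]; rfl
    · obtain ⟨c, hc⟩ := hup j hj
      rw [hA' v hv j, hc]
      refine ⟨?_, fun h1 => ?_⟩
      · rw [ap_one', up_10, up_11]; ring
      · rw [h1, ap_z]

theorem conj_aux (r : Set (Fin k)) {x : G} (hx : x ∈ zl (S : Subgroup G) P) (hs : ∀ i, i ∉ r → M.nat.e x i = 0) :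
    ∀ s : Finset (Fin k), (∀ i ∈ s, i ∈ r) → ∃ g ∈ ⨆ i ∈ r, L i, g * x * g⁻¹ ∈ zl (S : Subgroup G) P ∧
      (∀ i, i ∉ r → M.nat.e (g * x * g⁻¹) i = 0) ∧ ∀ i ∈ s, M.nat.e (g * x * g⁻¹) i 1 = 0 := by
  classical
  intro s
  induction s using Finset.induction_on with
  | empty =>
    intro _
    refine ⟨1, one_mem _, ?_, fun i hi => ?_, fun i hi => absurd hi (Finset.notMem_empty i)⟩
    · simpa using hx
    · simpa using hs i hi
  | insert i s hi ih =>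
    intro hr
    obtain ⟨g, hg, hgV, hg1, hg2⟩ := ih fun j hj => hr j (Finset.mem_insert_of_mem hj)
    have hir : i ∈ r := hr i (Finset.mem_insert_self i s)
    obtain ⟨l, hl, h1, h2⟩ := D.step i hgV
    have hLr : L i ≤ ⨆ i ∈ r, L i := le_iSup₂_of_le i hir le_rfl
    have e : (l * g) * x * (l * g)⁻¹ = l * (g * x * g⁻¹) * l⁻¹ := by group
    refine ⟨l * g, mul_mem (hLr hl) hg, ?_, fun j hj => ?_, fun j hj => ?_⟩
    · rw [e]; exact M.Vn l (D.LP i hl) _ hgV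
    · rw [e]
      exact (h2 j fun h => hj (h ▸ hir)).2 (hg1 j hj)
    · rw [e]
      by_cases hji : j = i
      · rw [hji]; exact h1
      · rw [(h2 j hji).1]
        rcases Finset.mem_insert.1 hj with h3 | h3
        · exact absurd h3 hji
        · exact hg2 j h3

omit [Finite G] D in
theorem sup_W_le (r : Set (Fin k)) {x : G} (hx : x ∈ ⨆ i ∈ r, Wn M i) :
    x ∈ zl (S : Subgroup G) P ∧ ∀ i, i ∉ r → M.nat.e x i = 0 := by
  have h1 : (⨆ i ∈ r, Wn M i) ≤ zl (S : Subgroup G) P := iSup₂_le fun i _ v hv => hv.1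
  refine ⟨h1 hx, fun i hi => ?_⟩
  have h2 : (⨆ j ∈ r, Wn M j) ≤ Cn M i := iSup₂_le fun j hj v hv => ⟨hv.1, hv.2 i fun h => hi (h ▸ hj)⟩
  exact (h2 hx).2

/-- an element of `⟨W i : i ∈ r⟩` is conjugate under `⟨L i : i ∈ r⟩` to an element of `Z_J`. -/
theorem conj_ZJ (r : Set (Fin k)) {x : G} (hx : x ∈ ⨆ i ∈ r, Wn M i) :
    ∃ g ∈ ⨆ i ∈ r, L i, g * x * g⁻¹ ∈ ZL (S : Subgroup G) n := by
  classical
  obtain ⟨hxV, hxs⟩ := sup_W_le r hx
  have hfin : r.Finite := Set.toFinite r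
  obtain ⟨g, hg, h1, h2, h3⟩ := D.conj_aux r hxV hxs hfin.toFinset fun i hi => by simpa using hi
  refine ⟨g, hg, (D.memJ _).2 ⟨h1, fun i => ?_⟩⟩
  by_cases hi : i ∈ r
  · exact h3 i (by simpa using hi)
  · rw [h2 i hi]; rfl

/-- `W i` is covered by the conjugates of `Z i`. -/
theorem cover (i : Fin k) {x : G} (hx : x ∈ Wn M i) : ∃ l ∈ L i, l * x * l⁻¹ ∈ Z i := by
  obtain ⟨l, hl, h1, h2⟩ := D.step i hx.1
  exact ⟨l, hl, (D.memZ i _).2 ⟨⟨M.Vn l (D.LP i hl) _ hx.1, fun j hj => (h2 j hj).2 (hx.2 j hj)⟩, h1⟩⟩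

/-- the order of `W i` -/
theorem card_W [Finite F] (i : Fin k) : Nat.card (Wn M i) = Nat.card F * Nat.card F := by
  rw [(D.ln.fr.blk i).card, D.ln.fr.cardZ i]

end DtL

end Cfsg.Agent.Omega.OM.SWQ

end

section


/-!
# THEOREM SWQ (#21705): the choice of the pair

`Sel D X T F` : a pair with `T ≤ S` for which `(|Phi(T)|, |C_{Z_J}(T)|)` is lexicographically maximal, in the form in which
this is used; `exists_sel`.
-/

set_option autoImplicit false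
set_option linter.unusedSectionVars false

namespace Cfsg.Agent.Omega.OM.SWQ

open Subgroup Cfsg Cfsg.Agent.ZN.ChoiceBase Cfsg.Agent.ZN.ChoiceSit
open Cfsg.Agent.ZN (jj zj bau zc zl o2)
open Cfsg.Agent.Omega.FrameFF (cv)
open Cfsg.Agent.Omega.NO3S.OneLine (NatC)
open Cfsg.Agent.Omega.OM.Lev.Nat
open Cfsg.Agent.Omega.OM.SwapL (Ln BL ZL lb BM Pair Phi exists_pair)

universe u

variable {G : Type u} [Group G] [Finite G] {S : Sylow 2 G} {P : Subgroup G} {n : ℕ}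

/-- A 2-group normalising a 2-group `Y ≠ 1` fixes an element `≠ 1` of `Y`. -/
theorem exists_fix {T Y : Subgroup G} (hT : IsPGroup 2 T) (hY : IsPGroup 2 Y) (hne : Y ≠ ⊥)
    (hn : T ≤ normalizer (Y : Set G)) : ∃ y ∈ Y, y ≠ 1 ∧ y ∈ centralizer (T : Set G) := by
  have : Fact (Nat.Prime 2) := ⟨Nat.prime_two⟩
  let a : MulAction T Y :=
    { smul := fun t y => ⟨t * y * (t : G)⁻¹, (mem_normalizer_iff.1 (hn t.2) y).1 y.2⟩
      one_smul := fun y => Subtype.ext (by change ((1 : T) : G) * y * ((1 : T) : G)⁻¹ = y; simp)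
      mul_smul := fun s t y => Subtype.ext (by
        change ((s * t : T) : G) * y * ((s * t : T) : G)⁻¹ = s * (t * y * (t : G)⁻¹) * (s : G)⁻¹
        rw [Subgroup.coe_mul]; group) }
  have hd : 2 ∣ Nat.card Y := by
    obtain ⟨n, hn⟩ := IsPGroup.iff_card.1 hY
    rcases Nat.eq_zero_or_pos n with h0 | h0
    · exact absurd (Subgroup.card_eq_one.1 (by rw [hn, h0, pow_zero])) hne
    · rw [hn]; exact dvd_pow_self 2 h0.ne'
  have h1 : (1 : Y) ∈ MulAction.fixedPoints T Y := by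
    rw [MulAction.mem_fixedPoints]
    intro t
    exact Subtype.ext (by change (t : G) * ((1 : Y) : G) * (t : G)⁻¹ = ((1 : Y) : G); simp)
  obtain ⟨b, hb, hb1⟩ := hT.exists_fixed_point_of_prime_dvd_card_of_fixed_point Y hd h1
  refine ⟨b, b.2, fun h0 => hb1 (Subtype.ext h0.symm), mem_centralizer_iff.2 fun t ht => ?_⟩
  have h2 : t * (b : G) * t⁻¹ = b := congrArg Subtype.val ((MulAction.mem_fixedPoints.1 hb) ⟨t, ht⟩)
  calc t * (b : G) = t * b * t⁻¹ * t := by group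
    _ = b * t := by rw [h2]

section cjp

variable {ι : Type} [Finite ι] {L W Z C A : ι → Subgroup G} {q : ℕ}

/-- `V` commutes with its conjugates under `F` if `V ≤ O₂(F)`, `B ≤ T` (any `q`). -/
theorem comm_of_pair' (h : Ln S P n L W Z C A q) {X T F : Subgroup G} (hp : Pair S P n X T F) {f : G} (hf : f ∈ F)
    {x y : G} (hx : x ∈ zl (S : Subgroup G) P) (hy : y ∈ zl (S : Subgroup G) P) :
    x * (f * y * f⁻¹) = f * y * f⁻¹ * x := by
  have hV := hp.VO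
  have hTn := SwapL.two_norm h hp.syl.2.1 hp.BT
  have hO : o2 F ≤ T := o2_le_syl hp.syl
  have hcO : cj f (o2 F) = o2 F := cj_eq_of_mem_normalizer (le_normalizer_o2 F hf)
  have h1 : cj f (zl (S : Subgroup G) P) ≤ normalizer (zl (S : Subgroup G) P : Set G) := by
    have := cj_mono f hV
    rw [hcO] at this
    exact (this.trans hO).trans hTn
  have h2 : zl (S : Subgroup G) P ≤ normalizer ((cj f (zl (S : Subgroup G) P) : Subgroup G) : Set G) := by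
    have h3 := cj_mono f ((hO.trans hTn : o2 F ≤ normalizer (zl (S : Subgroup G) P : Set G)))
    rw [hcO, cj_normalizer] at h3
    exact hV.trans h3
  by_contra hne
  refine h.hyp.noFF ⟨P, P, f, h.hyp.star, h.hyp.star, h2, h1, fun e => hne ?_⟩
  have h4 := commutator_eq_bot_iff_le_centralizer.1 e
  exact (mem_centralizer_iff.1 (h4 hx) (f * y * f⁻¹) ⟨y, hy, rfl⟩).symm

/-- Pairs are invariant under conjugation by `N_G(B)`. -/
theorem pair_cj (h : Ln S P n L W Z C A q) {X T F : Subgroup G}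
    (hN : normalizer (BL (S : Subgroup G) n : Set G) ≤ X) (hp : Pair S P n X T F) {m : G}
    (hm : m ∈ normalizer (BL (S : Subgroup G) n : Set G)) : Pair S P n X (cj m T) (cj m F) := by
  have hX : cj m X = X := cj_eq_of_mem_normalizer (le_normalizer (hN hm))
  have hX' : cj m⁻¹ X = X := cj_eq_of_mem_normalizer (le_normalizer (inv_mem (hN hm)))
  have hJ := cj_eq_of_mem_normalizer ((lb S n).norm_B_le hm)
  refine ⟨ZN.CaseTwo.syl_cj m hp.syl, ?_, fun hle => hp.nM ?_, fun K h1 h2 => ?_, ?_, ?_⟩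
  · have := cj_mono m hp.BT
    rwa [cj_eq_of_mem_normalizer hm] at this
  · have := cj_mono m⁻¹ hle
    rwa [cj_inv_cj, hX'] at this
  · have h3 := hp.min (cj m⁻¹ K) (by
      have := cj_mono m⁻¹ h1
      rwa [cj_inv_cj] at this) (by
      have h4 := cj_mono m⁻¹ h2.le
      rw [cj_inv_cj] at h4
      refine lt_of_le_of_ne h4 fun e => h2.ne ?_
      rw [← e, cj_cj_inv])
    have h4 := cj_mono m h3
    rwa [cj_cj_inv, hX] at h4
  · have := cj_mono m hp.VO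
    rwa [(h.norm hm).1, ← o2_cj] at this
  · have := cj_mono m hp.fix
    rwa [cj_inf, hJ, cj_centralizer, cj_centralizer, ← o2_cj] at this

end cjp

variable {F : Type} [Field F] [Finite F] {k : ℕ}
  {M : NatC F (S : Subgroup G) P (zl (S : Subgroup G) P) (cv (S : Subgroup G) P) k}
  {L Z A : Fin k → Subgroup G} (D : DtL S P n M L Z A)

include D

namespace DtL

theorem Z_ne_bot (i : Fin k) : Z i ≠ ⊥ := D.bg.Z_ne i

theorem exists_Z (i : Fin k) : ∃ z ∈ Z i, z ≠ 1 := by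
  by_contra hcon
  push Not at hcon
  exact D.Z_ne_bot i ((eq_bot_iff_forall _).2 hcon)

theorem Z_inj {i j : Fin k} {z : G} (hi : z ∈ Z i) (hj : z ∈ Z j) (h1 : z ≠ 1) : i = j := by
  by_contra hne
  apply h1
  have h2 : z ∈ Wn M i ⊓ Cn M i := mem_inf.2 ⟨D.Z_W i hi, D.ln.fr.WjC i j hne (D.Z_W j hj)⟩
  rwa [D.ln.fr.dir i, mem_bot] at h2

theorem Z_inj' {i j : Fin k} (e : Z i = Z j) : i = j := by
  obtain ⟨z, hz, h1⟩ := D.exists_Z i
  exact D.Z_inj hz (e ▸ hz) h1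

/-- an element of `N_G(B)` which centralises an element `≠ 1` of `Z i` normalises `Z i`. -/
theorem fix_of_comm {g : G} (hg : g ∈ normalizer (BL (S : Subgroup G) n : Set G)) {i : Fin k} {z : G}
    (hz : z ∈ Z i) (h1 : z ≠ 1) (hc : g * z = z * g) : cj g (Z i) = Z i := by
  obtain ⟨j, hj, -⟩ := (D.ln.norm hg).2 i
  have h2 : z ∈ Z j := by
    rw [← hj]
    refine ⟨z, hz, ?_⟩
    show g * z * g⁻¹ = z
    rw [hc]; group
  rw [hj, ← D.Z_inj hz h2 h1]

end DtL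

/-- The chosen pair. -/
structure Sel (D : DtL S P n M L Z A) (X T F : Subgroup G) : Prop where
  pair : Pair S P n X T F
  TS : T ≤ (S : Subgroup G)
  cen1 : ∀ Y : Subgroup G, Y ≤ ZL (S : Subgroup G) n → (∀ i ∈ Phi Z T, ∃ z ∈ Z i, z ≠ 1 ∧ z ∈ Y) →
    (∃ j, j ∉ Phi Z T ∧ ∃ z ∈ Z j, z ≠ 1 ∧ z ∈ Y) → centralizer (Y : Set G) ≤ X
  cen2 : (∀ i, i ∈ Phi Z T) → ∀ Y : Subgroup G, Y ≤ ZL (S : Subgroup G) n →
    ZL (S : Subgroup G) n ⊓ centralizer (T : Set G) < Y → centralizer (Y : Set G) ≤ X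

theorem exists_sel {X H : Subgroup G} (hBM : BM S n X) (hD : centralizer (ZL (S : Subgroup G) n : Set G) ≤ X)
    (hN : normalizer (BL (S : Subgroup G) n : Set G) ≤ X)
    (hB : BL (S : Subgroup G) n ≤ H) (hc : H ⊓ centralizer (o2 H : Set G) ≤ o2 H) (hM : ¬ H ≤ X) :
    ∃ T F : Subgroup G, Sel D X T F := by
  classical
  set J : Subgroup G := ZL (S : Subgroup G) n with hJ
  have hJ2 : IsPGroup 2 J := (lb S n).Bp.to_le (lb S n).ZB
  let μ : Subgroup G → ℕ := fun T =>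
    (Phi Z T).ncard * (Nat.card J + 1) + Nat.card ↥(J ⊓ centralizer (T : Set G))
  have hle : ∀ T : Subgroup G, Nat.card ↥(J ⊓ centralizer (T : Set G)) ≤ Nat.card J := fun T =>
    Subgroup.card_le_of_le inf_le_left
  let s : Set ℕ := {m | ∃ T F : Subgroup G, Pair S P n X T F ∧ μ T = m}
  have hs1 : s.Nonempty := by
    obtain ⟨T, F, hp, -⟩ := exists_pair D.ln hBM hD hN hB hc hM
    exact ⟨_, T, F, hp, rfl⟩
  have hs2 : s.Finite := by
    refine (Set.finite_Iic (Nat.card (Fin k) * (Nat.card J + 1) + Nat.card J)).subset ?_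
    rintro m ⟨T, F, -, rfl⟩
    rw [Set.mem_Iic]
    refine Nat.add_le_add (Nat.mul_le_mul_right _ ?_) (hle T)
    rw [← Set.ncard_univ]
    exact Set.ncard_le_ncard (Set.subset_univ _)
  obtain ⟨m₀, hm₀⟩ := hs2.exists_maximal hs1
  obtain ⟨T₀, F₀, hp₀, hμ₀⟩ := hm₀.prop
  have hmax : ∀ T F : Subgroup G, Pair S P n X T F → μ T ≤ μ T₀ := by
    intro T F hp
    rw [hμ₀]
    by_contra hcon
    push Not at hcon
    exact absurd (hm₀.le_of_ge ⟨T, F, hp, rfl⟩ hcon.le) (by omega)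
  -- conjugate into `S`
  have hTN : ∀ T : Subgroup G, IsPGroup 2 T → BL (S : Subgroup G) n ≤ T →
      T ≤ normalizer (BL (S : Subgroup G) n : Set G) := fun T hT hB => (lb S n).two_le hT hB
  have hsyl : Syl (S : Subgroup G) (normalizer (BL (S : Subgroup G) n : Set G)) :=
    ZN.CaseTwo.syl_of_sylow S (hTN _ S.isPGroup' D.BS)
  obtain ⟨T₁, hT₁, hTT₁⟩ := exists_syl hp₀.syl.2.1 (hTN _ hp₀.syl.2.1 hp₀.BT)
  obtain ⟨m, hm, hmS⟩ := syl_conj hT₁ hsyl
  have hTS : cj m T₀ ≤ (S : Subgroup G) := by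
    rw [← hmS]
    exact cj_mono m hTT₁
  have hp := pair_cj D.ln hN hp₀ hm
  have hμ : μ T₀ ≤ μ (cj m T₀) := by
    refine Nat.add_le_add (Nat.mul_le_mul_right _ ?_) ?_
    · choose σ hσ hσ' using (D.ln.norm hm).2
      refine Set.ncard_le_ncard_of_injOn σ ?_ ?_ (Set.toFinite _)
      · intro i hi t ht
        rw [mem_cj] at ht
        have h1 : cj (m⁻¹ * t * m) (Z i) = Z i := hi _ ht
        rw [← hσ i, cj_cj]
        conv_rhs => rw [← h1]
        rw [cj_cj]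
        congr 1
        group
      · intro i _ j _ e
        apply D.Z_inj'
        have h1 : cj m (Z i) = cj m (Z j) := by rw [hσ i, hσ j, e]
        rw [← cj_inv_cj m (Z i), h1, cj_inv_cj]
    · have h1 : J ⊓ centralizer ((cj m T₀ : Subgroup G) : Set G) = cj m (J ⊓ centralizer (T₀ : Set G)) := by
        rw [cj_inf, cj_centralizer, hJ, cj_eq_of_mem_normalizer ((lb S n).norm_B_le hm)]
      rw [h1, card_cj]
  generalize cj m T₀ = T at hTS hp hμ
  generalize cj m F₀ = K at hp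
  have hmax' : ∀ T' F' : Subgroup G, Pair S P n X T' F' → μ T' ≤ μ T := fun T' F' h => (hmax T' F' h).trans hμ
  -- the pair of a centraliser
  have key : ∀ Y : Subgroup G, Y ≤ J → (∃ z ∈ Y, z ≠ 1) → ¬ centralizer (Y : Set G) ≤ X →
      ∃ T' F' : Subgroup G, Pair S P n X T' F' ∧ T' ≤ centralizer (Y : Set G) ∧
        ∀ i, (∃ z ∈ Z i, z ≠ 1 ∧ z ∈ Y) → i ∈ Phi Z T' := by
    intro Y hYJ hY1 hcon
    have hYne : Y ≠ ⊥ := by
      rintro rfl
      obtain ⟨z, hz, h1⟩ := hY1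
      exact h1 (mem_bot.1 hz)
    have hBY : BL (S : Subgroup G) n ≤ centralizer (Y : Set G) :=
      (lb S n).Bc.trans (centralizer_le (by exact_mod_cast hYJ))
    obtain ⟨T', F', hp', hle'⟩ := exists_pair D.ln hBM hD hN hBY
      (Swap.char2_cent D.ln.hyp.ctx.char2 (hJ2.to_le hYJ) hYne) hcon
    refine ⟨T', F', hp', hp'.syl.1.trans hle', ?_⟩
    rintro i ⟨z, hz, h1, hzY⟩ t ht
    refine D.fix_of_comm (hTN T' hp'.syl.2.1 hp'.BT ht) hz h1 ?_
    exact (mem_centralizer_iff.1 (hle' (hp'.syl.1 ht)) z hzY).symm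
  refine ⟨T, K, ⟨hp, hTS, ?_, ?_⟩⟩
  · rintro Y hYJ hPhi ⟨j, hj, hjY⟩
    by_contra hcon
    obtain ⟨z, hz, h1, hzY⟩ := hjY
    obtain ⟨T', F', hp', -, hfix⟩ := key Y hYJ ⟨z, hzY, h1⟩ hcon
    have hsub : insert j (Phi Z T) ⊆ Phi Z T' := by
      rintro i (rfl | hi)
      · exact hfix _ ⟨z, hz, h1, hzY⟩
      · exact hfix i (hPhi i hi)
    have h2 : (Phi Z T).ncard + 1 ≤ (Phi Z T').ncard := by
      rw [← Set.ncard_insert_of_notMem hj (Set.toFinite _)]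
      exact Set.ncard_le_ncard hsub (Set.toFinite _)
    have h3 := hmax' T' F' hp'
    have h4 := Nat.mul_le_mul_right (Nat.card J + 1) h2
    have h5 := hle T
    simp only [μ] at h3
    rw [add_mul, one_mul] at h4
    omega
  · intro hall Y hYJ hlt
    by_contra hcon
    have hne : ∀ i, ∃ z ∈ Z i, z ≠ 1 ∧ z ∈ Y := by
      intro i
      obtain ⟨z, hz, h1, hzT⟩ := exists_fix hp.syl.2.1 (D.bg.Z_two i) (D.Z_ne_bot i) fun t ht =>
        mem_normalizer_iff_cj.2 (hall i t ht)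
      exact ⟨z, hz, h1, hlt.le ⟨D.ln.fr.Z_le i hz, hzT⟩⟩
    have hY1 : ∃ z ∈ Y, z ≠ 1 := by
      obtain ⟨z, hz, h1, hzY⟩ := hne ⟨0, D.k_pos⟩
      exact ⟨z, hzY, h1⟩
    obtain ⟨T', F', hp', hT'Y, hfix⟩ := key Y hYJ hY1 hcon
    have h2 : (Phi Z T).ncard ≤ (Phi Z T').ncard :=
      Set.ncard_le_ncard (fun i _ => hfix i (hne i)) (Set.toFinite _)
    have h3 := hmax' T' F' hp'
    have h4 := Nat.mul_le_mul_right (Nat.card J + 1) h2
    have h5 : Nat.card ↥(J ⊓ centralizer (T : Set G)) < Nat.card Y := by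
      refine lt_of_le_of_ne (Subgroup.card_le_of_le hlt.le) fun e => ?_
      exact hlt.ne (Subgroup.eq_of_le_of_card_ge hlt.le e.ge)
    have h6 : Nat.card Y ≤ Nat.card ↥(J ⊓ centralizer (T' : Set G)) :=
      Subgroup.card_le_of_le (le_inf hYJ (le_centralizer_iff.1 hT'Y))
    simp only [μ] at h3
    omega

end Cfsg.Agent.Omega.OM.SWQ

end
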