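import Cfsg.Agent.Omega.OM.SWQ.TwoAbs
import Cfsg.Agent.Mrg.Omega.OM.Swap.Fam.CountQ


/-!
# THEOREM SWQ (#21705), CASE II: the hypothesis `Cost` of THEOREM COUNT
-/

set_option autoImplicit false

namespace Cfsg.Agent.Omega.OM.SWQ

open Subgroup Cfsg

/-- **`Cost` in CASE II.** -/
theorem AB.cost_two {G : Type*} [Group G] [Finite G] {F : Type} [Field F] [Finite F] [CharP F 2] {T W Z : Subgroup G}
    {c : G → F × F} (h : AB T W Z c) (hmov : ∃ t ∈ T, ∃ z ∈ Z, t * z ≠ z * t) (h4 : Nat.card F ≠ 4) :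
    Swap.Fam.Cost T W (fun w => w ∈ Z ∧ ∃ t ∈ T, t * w ≠ w * t) := h.cost hmov h4

end Cfsg.Agent.Omega.OM.SWQ
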