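import Cfsg.Agent.Mrg.Omega.OM.SWQ.CaseTwoEnd
import Cfsg.Agent.Mrg.Omega.OM.FourF.OneF
import Cfsg.Agent.Mrg.Omega.OM.FourF.Three


/-!
# (4F) at the levels `n ≥ 0`: `T` normalises all `Z i`, `|F| = 4`

* `DtL.slX` : `SL₂(F)` on `W i` inside `X ≥ L i, B`;
* `Core4` : the situation; `Core4.exists_u`, `Core4.thr`, `Core4.oneF`;
* `DtL.case_four` : contradiction.
-/

set_option autoImplicit false
set_option linter.unusedSectionVars false

namespace Cfsg.Agent.Omega.OM.SWQ.CaseFour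

open Subgroup Cfsg Cfsg.Agent.ZN.ChoiceBase Cfsg.Agent.ZN.ChoiceSit
open Cfsg.Agent.ZN (jj zj bau zc zl o2)
open Cfsg.Agent.Lib.SL2Mat
open Cfsg.Agent.Omega.NatPair hiding cj
open Cfsg.Agent.Omega.FFThm (NatK NatKM ActsSL)
open Cfsg.Agent.Omega.FrameFF (cv)
open Cfsg.Agent.Omega.NO3S (HypN)
open Cfsg.Agent.Omega.NO3S.OneLine (NatC)
open Cfsg.Agent.Omega.NO3S.Level (lev)
open Cfsg.Agent.Omega.OM.Lev.Nat
open Cfsg.Agent.Omega.OM.SwapL (Ln BL ZL lb BM Pair Phi exists_fam)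
open Cfsg.Agent.Omega.OM.FourF (MD Thr OneF Lin Sem conjW dl dl_ap' dl_zero' dl_one')
open Cfsg.Agent.Omega.OM.SWQ.CaseTwo (elab_V ZL_le)
open Cfsg.Agent.MinSimple.MinParabolic (IsMinPar)
open Cfsg.Agent.MinSimple.VModule (oddGen oddGen_le mem_oddGen oddGen_def)

universe u

variable {G : Type u} [Group G] [Finite G] {S : Sylow 2 G} {P : Subgroup G} {n : ℕ} {F : Type} [Field F] [Finite F]
  [CharP F 2] {k : ℕ} {M : NatC F (S : Subgroup G) P (zl (S : Subgroup G) P) (cv (S : Subgroup G) P) k}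
  {L Z A : Fin k → Subgroup G} (D : DtL S P n M L Z A)

include D

/-- elements of `⟨L i, B⟩` acting on `W i` as `A'`, trivially on the other summands. -/
theorem lift_one {X : Subgroup G} (hL : ∀ i, L i ≤ X) (hB : BL (S : Subgroup G) n ≤ X) (i : Fin k)
    (A' : Matrix.SpecialLinearGroup (Fin 2) F) : ∃ g ∈ X, g ∈ normalizer (Wn M i : Set G) ∧
      (∀ w ∈ Wn M i, M.nat.e (g * w * g⁻¹) i = ap A' (M.nat.e w i)) ∧
        ∀ j, j ≠ i → ∀ w ∈ Wn M j, g * w = w * g := by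
  classical
  obtain ⟨l, hl, A'', hA, hAi⟩ := D.acts i A'
  obtain ⟨hlP, A₁, hA₁, hup⟩ := D.LX i hl
  have hc : ∀ j, ∃ c, j ≠ i → A₁ j = up c := by
    intro j
    by_cases hj : j = i
    · exact ⟨0, fun h => absurd hj h⟩
    · obtain ⟨c, hc⟩ := hup j hj
      exact ⟨c, fun _ => hc⟩
  choose c hc using hc
  obtain ⟨b, hb, hbA⟩ := D.exists_b fun j => if j = i then 0 else - c j
  have hbP : b ∈ P := D.SP (D.BS hb)
  have hgP : b * l ∈ P := mul_mem hbP hlP
  have hgX : b * l ∈ X := mul_mem (hB hb) (hL i hl)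
  have hV : ∀ v ∈ zl (S : Subgroup G) P, b * l * v * (b * l)⁻¹ ∈ zl (S : Subgroup G) P := fun v hv => M.Vn _ hgP v hv
  have hi : ∀ v ∈ zl (S : Subgroup G) P, M.nat.e (b * l * v * (b * l)⁻¹) i = ap A' (M.nat.e v i) := by
    intro v hv
    have e1 : b * l * v * (b * l)⁻¹ = b * (l * v * l⁻¹) * b⁻¹ := by group
    rw [e1, hbA _ (M.Vn l hlP v hv) i, hA v hv i, hAi]
    beta_reduce
    rw [if_pos rfl]
    apply ext2
    · rw [ap_zero', up_00, up_01, one_mul, zero_mul, add_zero]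
    · rw [ap_one', up_10, up_11, zero_mul, one_mul, zero_add]
  have hj : ∀ v ∈ zl (S : Subgroup G) P, ∀ j, j ≠ i → M.nat.e (b * l * v * (b * l)⁻¹) j = M.nat.e v j := by
    intro v hv j hj
    have e1 : b * l * v * (b * l)⁻¹ = b * (l * v * l⁻¹) * b⁻¹ := by group
    rw [e1, hbA _ (M.Vn l hlP v hv) j, hA₁ v hv j, hc j hj]
    beta_reduce
    rw [if_neg hj]
    apply ext2
    · rw [ap_zero', up_00, up_01, ap_zero', ap_one', up_00, up_01, up_10, up_11]
      ring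
    · rw [ap_one', up_10, up_11, ap_zero', ap_one', up_00, up_01, up_10, up_11]
      ring
  refine ⟨b * l, hgX, ?_, fun w hw => hi w hw.1, fun j hj' w hw => ?_⟩
  · rw [mem_normalizer_iff_cj]
    refine Subgroup.eq_of_le_of_card_ge ?_ (by rw [card_cj])
    rintro _ ⟨v, hv, rfl⟩
    refine ⟨hV v hv.1, fun j hj' => ?_⟩
    show M.nat.e (b * l * v * (b * l)⁻¹) j = 0
    rw [hj v hv.1 j hj', hv.2 j hj']
  · refine mul_inv_eq_iff_eq_mul.1 (D.inj (hV w hw.1) hw.1 ?_)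
    funext m
    by_cases hm : m = i
    · rw [hm, hi w hw.1, hw.2 i (Ne.symm hj')]
      apply ext2
      · rw [ap_zero']; simp
      · rw [ap_one']; simp
    · exact hj w hw.1 m hm

variable {z₀ f₀ : Fin k → F}

/-- (SL) -/
theorem sl (m : MD M.nat (BL (S : Subgroup G) n) (ZL (S : Subgroup G) n) (Wn M) Z z₀ f₀) {X : Subgroup G}
    (hL : ∀ i, L i ≤ X) (hB : BL (S : Subgroup G) n ≤ X) (i : Fin k) (a b c d : F) (hd : a * d - b * c = 1) :
    ∃ g ∈ X, g ∈ normalizer (Wn M i : Set G) ∧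
      FourF.Act (Wn M i) (MD.co M.nat z₀ f₀ i) g (fun p => (a * p.1 + b * p.2, c * p.1 + d * p.2)) ∧
        ∀ j, j ≠ i → ∀ w ∈ Wn M j, g * w = w * g := by
  obtain ⟨A, hA⟩ := dl_ap' (m.hz i) (m.hf i) (Cfsg.Agent.Lib.SL2Mat.mk a b c d hd)
  obtain ⟨g, hg, h1, h2, h3⟩ := lift_one D hL hB i A
  refine ⟨g, hg, h1, fun w hw => ?_, h3⟩
  have h4 := hA (M.nat.e w i)
  rw [← h2 w hw] at h4
  have h5 := congrFun h4 0
  have h6 := congrFun h4 1
  rw [dl_zero', ap_zero', mk_00, mk_01] at h5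
  rw [dl_one', ap_one', mk_10, mk_11] at h6
  ext
  · rw [MD.co_fst]; exact h5
  · rw [MD.co_snd]; exact h6

/-- The coordinate `co` vanishes at `1`. -/
theorem co_one (m : MD M.nat (BL (S : Subgroup G) n) (ZL (S : Subgroup G) n) (Wn M) Z z₀ f₀) (i : Fin k) :
    MD.co M.nat z₀ f₀ i 1 = 0 := by
  have h1 := m.co_mul (i := i) (one_mem (zl (S : Subgroup G) P)) (one_mem _)
  rw [mul_one] at h1
  exact left_eq_add.1 h1

section core

variable {X T Y : Subgroup G} (m : MD M.nat (BL (S : Subgroup G) n) (ZL (S : Subgroup G) n) (Wn M) Z z₀ f₀)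
  (hp : Pair S P n X T Y) (hTS : T ≤ (S : Subgroup G)) (hPhi : ∀ i, ∀ t ∈ T, cj t (Z i) = Z i) (hq : Nat.card F = 4)

include m hp hTS hPhi hq

/-- the central element `u i` -/
theorem exists_u (i : Fin k) : ∃ u ∈ Z i, MD.co M.nat z₀ f₀ i u = (1, 0) ∧ ∀ y ∈ Y, y * u = u * y := by
  obtain ⟨u, hu, hue⟩ := m.exists_u i
  refine ⟨u, hu, hue, ?_⟩
  have huW : u ∈ Wn M i := D.Z_W i hu
  have hO : o2 Y ≤ T := o2_le_syl hp.syl
  have h1 : ∀ t ∈ T, t * u = u * t := by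
    intro t ht
    have hTt := hPhi i t ht
    have htW : t * u * t⁻¹ ∈ Wn M i := conjW (m.nW (hTS ht) hTt) huW
    refine mul_inv_eq_iff_eq_mul.1 (m.co_inj htW huW ?_)
    obtain ⟨l, hl | hl⟩ := m.act4 hq (hTS ht) hTt
    · rw [hl u huW, hue]
      ext <;> simp
    · rw [hl u huW, hue]
      ext <;> simp
  intro y hy
  have h2 : u ∈ centralizer (Y : Set G) :=
    hp.fix ⟨D.ln.fr.Z_le i hu, mem_centralizer_iff.2 fun o ho => h1 o (hO ho)⟩
  exact mem_centralizer_iff.1 h2 y hy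

/-- the structure `Thr` -/
theorem thr (hL : ∀ i, L i ≤ X) (hD : centralizer (ZL (S : Subgroup G) n : Set G) ≤ X)
    (hN : normalizer (BL (S : Subgroup G) n : Set G) ≤ X) {u : Fin k → G} (hu : ∀ i, u i ∈ Z i)
    (hue : ∀ i, MD.co M.nat z₀ f₀ i (u i) = (1, 0)) (huY : ∀ i, ∀ y ∈ Y, y * u i = u i * y) :
    Thr Y T X (Wn M) Z u (MD.co M.nat z₀ f₀) where
  card := hq
  syl := hp.syl
  TM := ((lb S n).two_le hp.syl.2.1 hp.BT).trans hN
  co := fun i => m.toCo (hu i) (hue i)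
  TN := fun i t ht => m.nW (hTS ht) (hPhi i t ht)
  act := fun i t ht => m.act4 hq (hTS ht) (hPhi i t ht)
  full := fun i l => by
    obtain ⟨b, hb, h1⟩ := m.full i l
    exact ⟨b, hp.BT hb, h1⟩
  sl := sl D m hL (le_normalizer.trans hN)
  NM := fun g hg => by
    have h1 : g ∈ normalizer (ZL (S : Subgroup G) n : Set G) := by
      have h2 : ZL (S : Subgroup G) n = ⨆ i, Z i := le_antisymm (ZL_le D) (iSup_le D.ln.fr.Z_le)
      rw [mem_normalizer_iff_cj, h2, Swap.cj_iSup]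
      exact iSup_congr hg
    exact ((lb S n).norm_zj_le.trans (sup_le hD hN)) h1
  Xu := huY
  fix := fun i hi x hx z hz => by
    have h2 : z ∈ centralizer (Y : Set G) :=
      hp.fix ⟨D.ln.fr.Z_le i hz, mem_centralizer_iff.2 fun o ho => hi o ho z hz⟩
    exact mem_centralizer_iff.1 h2 x hx

/-- the structure `OneF` for the index `i` -/
theorem oneF (hD : centralizer (ZL (S : Subgroup G) n : Set G) ≤ X)
    (hN : normalizer (BL (S : Subgroup G) n : Set G) ≤ X) {i : Fin k} {u : G} (hu : u ∈ Z i)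
    (hue : MD.co M.nat z₀ f₀ i u = (1, 0)) (huY : ∀ y ∈ Y, y * u = u * y) :
    ∃ 𝓐 : Set (Subgroup G), OneF F Y T 𝓐 (Wn M i) (Z i) u (MD.co M.nat z₀ f₀ i) := by
  have hZM : normalizer (ZL (S : Subgroup G) n : Set G) ≤ X := (lb S n).norm_zj_le.trans (sup_le hD hN)
  have hTM : T ≤ X := ((lb S n).two_le hp.syl.2.1 hp.BT).trans hN
  obtain ⟨𝓐, hfam, hnJ, hA⟩ := exists_fam D.ln hp hD hTM hZM
  have hVel := elab_V D.ln hp
  have hUV : Wn M i ≤ zl (S : Subgroup G) P := D.ln.fr.WV i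
  have hLV : NoFF.Basic.V (Wn M i) Y ≤ NoFF.Basic.V (zl (S : Subgroup G) P) Y :=
    NoFF.Basic.V_le fun f hf => (cj_mono f hUV).trans (NoFF.Basic.Z_le_V hf)
  have hUO : Wn M i ≤ o2 Y := hUV.trans hp.VO
  have hUF : Wn M i ≤ Y := hUO.trans (o2_le Y)
  have hLF : NoFF.Basic.V (Wn M i) Y ≤ Y := by
    refine NoFF.Basic.V_le fun f hf => ?_
    have := cj_mono f hUF
    rwa [cj_eq_of_mem_normalizer (le_normalizer hf)] at this
  have hel := Swap.elab_mono hVel hLV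
  have hlin : ∀ b ∈ BL (S : Subgroup G) n, b ∈ T → ∃ l, Lin (MD.co M.nat z₀ f₀ i) (Wn M i) l b := by
    intro b hb hbT
    obtain ⟨l, hl | hl⟩ := m.act4 hq (hTS hbT) (hPhi i b hbT)
    · exact ⟨l, hl⟩
    · exfalso
      obtain ⟨v, hv, hve⟩ : ∃ v ∈ Z i, ∀ x : F, x = (MD.co M.nat z₀ f₀ i v).1 → x * x ≠ x := by
        have h4 : ∃ w : F, w ^ 2 = w + 1 := FourF.exists_w hq
        obtain ⟨w, hw⟩ := h4
        obtain ⟨v, hv, hve⟩ := m.co_surj i (w, 0)
        refine ⟨v, m.co_Z.2 ⟨hv, by rw [hve]⟩, ?_⟩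
        rintro x rfl h5
        rw [hve, ← pow_two, hw] at h5
        simp at h5
      have h1 := hl v (D.Z_W i hv)
      have h2 : b * v * b⁻¹ = v := by
        rw [D.cB hb (D.ln.fr.Z_le i hv)]; group
      have h3 := (m.co_Z.1 hv).2
      rw [h2] at h1
      have h4 := congrArg Prod.fst h1
      simp only [h3, mul_zero, add_zero] at h4
      exact hve _ rfl h4.symm
  refine ⟨𝓐, ?_⟩
  exact
  { cardK := hq
    TU := fun t ht => m.nW (hTS ht) (hPhi i t ht)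
    Uc := fun v hv w hw => D.ln.fr.Vc (m.WV hv) (m.WV hw)
    U2 := fun v hv => by
      rw [← pow_two]
      exact SQ1.Bau.elem_sq D.ln.fr.el v (m.WV hv)
    uU := D.Z_W i hu
    eu := hue
    ZU := D.Z_W i
    mul := fun v hv w hw => m.co_mul (m.WV hv) (m.WV hw)
    inj := (m.toCo hu hue).ker
    surj := m.co_surj i
    memZ := fun v hv => by
      rw [(m.toCo hu hue).memZ]
      exact ⟨fun h => h.2, fun h => ⟨hv, h⟩⟩
    act := fun t ht => by
      obtain ⟨l, hl | hl⟩ := m.act4 hq (hTS ht) (hPhi i t ht)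
      · exact ⟨l, Or.inl hl⟩
      · refine ⟨l, Or.inr fun v hv => ?_⟩
        rw [hl v hv]
        simp only [pow_two]
    syl := hp.syl
    par := hp.minPar hZM
    UO := hUO
    comm := fun x hx y hy => SQ1.Bau.elem_comm hel x hx y hy
    sq := fun x hx => by
      rw [← pow_two]
      exact SQ1.Bau.elem_sq hel x hx
    uF := huY
    fam := hfam _ hel hLF OmThm.XD.X_le_normalizer_W hLV
    nJ := hnJ
    lin := fun A hA' hAT a ha => hlin a ((hA A hA' hAT).1 ha) (hAT ha)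
    full := fun l => by
      obtain ⟨b, hb, h1⟩ := m.full i l
      exact ⟨b, hp.BT hb, h1⟩ }

end core

/-- **(4F) at the levels** -/
theorem _root_.Cfsg.Agent.Omega.OM.SWQ.DtL.case_four {X T Y : Subgroup G} (hs : Sel D X T Y) (hL : ∀ i, L i ≤ X)
    (hD : centralizer (ZL (S : Subgroup G) n : Set G) ≤ X) (hN : normalizer (BL (S : Subgroup G) n : Set G) ≤ X)
    (hPhi : ∀ i, i ∈ Phi Z T) (hq : Nat.card F = 4) : False := by
  obtain ⟨z₀, f₀, m⟩ := D.exists_md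
  have hp := hs.pair
  have hTS := hs.TS
  have hZ : ∀ i, ∀ t ∈ T, cj t (Z i) = Z i := fun i t ht => hPhi i t ht
  choose u hu hue huY using exists_u D m hp hTS hZ hq
  have ht := thr D m hp hTS hZ hq hL hD hN hu hue huY
  refine hp.nM (ht.le fun i => ?_)
  obtain ⟨𝓐, h1⟩ := oneF D m hp hTS hZ hq hD hN (hu i) (hue i) (huY i)
  have hfix : o2 Y ≤ centralizer (Z i : Set G) → Y ≤ centralizer (Z i : Set G) := by
    intro hi x hx
    refine mem_centralizer_iff.2 fun z hz => ?_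
    have h3 : z ∈ centralizer (Y : Set G) :=
      hp.fix ⟨D.ln.fr.Z_le i hz, mem_centralizer_iff.2 fun o ho => (mem_centralizer_iff.1 (hi ho) z hz).symm⟩
    exact (mem_centralizer_iff.1 h3 x hx).symm
  rcases h1.main hfix with h2 | h2
  · right
    intro x hx z hz
    exact (mem_centralizer_iff.1 (h2 hx) z hz).symm
  · exact Or.inl h2

end Cfsg.Agent.Omega.OM.SWQ.CaseFour
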