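import Cfsg.Agent.Mrg.Omega.OM.SWQ.CaseOne
import Cfsg.Agent.Mrg.Omega.OM.SWQ.CostTwo
import Cfsg.Agent.Mrg.Omega.OM.Lev.Low.LowMain
import Cfsg.Agent.Mrg.Omega.TC.UniLev

section


/-!
# THEOREM SWQ (#21705), CASE II: `T` normalises all `Z i`, `q ≠ 4`

* `exists_ab` : the coordinates of `W i` for a 2-group `T ≤ S` which normalises `Z i`;
* `caseTwo` : the chosen pair does not exist if `q ≠ 4`.
-/

set_option autoImplicit false
set_option linter.unusedSectionVars false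

namespace Cfsg.Agent.Omega.OM.SWQ

open Subgroup Cfsg Cfsg.Agent.ZN.ChoiceBase Cfsg.Agent.ZN.ChoiceSit
open Cfsg.Agent.ZN (jj zj bau zc zl o2)
open Cfsg.Agent.Omega.FrameFF (cv)
open Cfsg.Agent.Omega.NO3S.OneLine (NatC)
open Cfsg.Agent.Omega.OM.Lev.Nat
open Cfsg.Agent.Omega.OM.SwapL (Ln BL ZL lb BM Pair Phi exists_pair exists_fam)
open Cfsg.Agent.Omega.OmThm

universe u

variable {G : Type u} [Group G] [Finite G] {S : Sylow 2 G} {P : Subgroup G} {n : ℕ}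
  {K : Type} [Field K] [Finite K] [CharP K 2] {k : ℕ}
  {M : NatC K (S : Subgroup G) P (zl (S : Subgroup G) P) (cv (S : Subgroup G) P) k}
  {L Z A : Fin k → Subgroup G} (D : DtL S P n M L Z A)

include D

/-- The coordinates of `W i`. -/
theorem exists_ab {T : Subgroup G} (hTS : T ≤ (S : Subgroup G)) (i : Fin k) (hT : ∀ t ∈ T, cj t (Z i) = Z i) :
    ∃ c : G → K × K, AB T (Wn M i) (Z i) c ∧
      ∀ l : K, ∃ b ∈ BL (S : Subgroup G) n, Act (Wn M i) c b 1 l := by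
  obtain ⟨z₀, f₀, h⟩ := D.exists_md
  refine ⟨FourF.MD.co M.nat z₀ f₀ i, ⟨fun x hx y hy => D.ln.fr.Vc hx.1 hy.1, fun x hx => ?_,
    fun x hx y hy => h.co_mul hx.1 hy.1, h.co_surj i, fun w hw h0 => ?_, fun w => h.co_Z, fun t ht w hw => ?_,
    fun t ht => ?_, S.isPGroup'.to_le hTS⟩, fun l => ?_⟩
  · rw [← pow_two]
    exact SQ1.Bau.elem_sq D.ln.fr.el x hx.1
  · refine h.co_inj hw (one_mem _) ?_
    have h1 := h.co_mul (i := i) (one_mem (zl (S : Subgroup G) P)) (one_mem _)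
    rw [mul_one] at h1
    rw [h0, left_eq_add.1 h1]
  · exact (mem_normalizer_iff.1 (h.nW (hTS ht) (hT t ht)) w).1 hw
  · obtain ⟨s, l, hs⟩ := h.act (hTS ht) (hT t ht)
    exact ⟨s, l, fun w hw => hs w hw⟩
  · obtain ⟨b, hb, hc⟩ := h.full i l
    exact ⟨b, hb, fun w hw => hc w hw⟩

/-- **CASE II.** -/
theorem caseTwo {X T F : Subgroup G} (s : Sel D X T F)
    (hD : centralizer (ZL (S : Subgroup G) n : Set G) ≤ X) (hN : normalizer (BL (S : Subgroup G) n : Set G) ≤ X)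
    (hall : ∀ i, i ∈ Phi Z T) (hK : Nat.card K ≠ 4) : False := by
  classical
  have hp := s.pair
  have hZM : normalizer (ZL (S : Subgroup G) n : Set G) ≤ X := (lb S n).norm_zj_le.trans (sup_le hD hN)
  have hSM : (S : Subgroup G) ≤ X := ((lb S n).two_le S.isPGroup' (lb S n).BS).trans hN
  have hTM : T ≤ X := s.TS.trans hSM
  have hO : o2 F ≤ T := o2_le_syl hp.syl
  have hTF : T ≤ F := hp.syl.1
  obtain ⟨𝓐, hfam, hnJ, hA⟩ := exists_fam D.ln hp hD hTM hZM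
  -- an index on which `O₂(F)` acts nontrivially
  obtain ⟨j, o, ho, z, hz, hoz⟩ : ∃ j, ∃ o ∈ o2 F, ∃ z ∈ Z j, o * z ≠ z * o := by
    by_contra hcon
    push Not at hcon
    apply hp.nM
    have h1 : ZL (S : Subgroup G) n ≤ centralizer (F : Set G) := by
      intro x hx
      refine hp.fix ⟨hx, ?_⟩
      have h2 : x ∈ ⨆ i ∈ (Finset.univ : Finset (Fin k)), Z i := by
        refine ModQ.W_inf_ZJ D.ln.fr _ x ?_ hx
        have h3 : x ∈ zl (S : Subgroup G) P := D.ln.fr.ZJV hx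
        rw [D.ln.fr.V_eq] at h3
        have e : (⨆ i ∈ (Finset.univ : Finset (Fin k)), Wn M i) = ⨆ i, Wn M i := by simp
        rw [e]
        exact h3
      refine (iSup₂_le fun i _ y hy => ?_ : (⨆ i ∈ (Finset.univ : Finset (Fin k)), Z i) ≤
        centralizer (o2 F : Set G)) h2
      exact mem_centralizer_iff.2 fun o ho => hcon i o ho y hy
    exact (le_centralizer_iff.1 h1).trans hD
  -- centralisers
  have hcen : ∀ x ∈ Z j, (∃ t ∈ T, t * x ≠ x * t) → ∀ f ∈ F, f * x = x * f → f ∈ X := by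
    rintro x hx ⟨t, ht, htx⟩ f hf hfx
    refine s.cen2 hall ((ZL (S : Subgroup G) n ⊓ centralizer (T : Set G)) ⊔ zpowers x)
      (sup_le inf_le_left (by rw [zpowers_le]; exact D.ln.fr.Z_le j hx)) ?_ ?_
    · refine lt_of_le_of_ne le_sup_left fun e => htx ?_
      have h1 : x ∈ ZL (S : Subgroup G) n ⊓ centralizer (T : Set G) := by
        rw [e]
        exact mem_sup_right (mem_zpowers x)
      exact mem_centralizer_iff.1 h1.2 t ht
    · have h1 : ((ZL (S : Subgroup G) n ⊓ centralizer (T : Set G)) ⊔ zpowers x : Subgroup G) ≤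
          centralizer ({f} : Set G) := by
        refine sup_le (fun y hy => ?_) ?_
        · rw [mem_centralizer_singleton_iff]
          have h2 : y ∈ centralizer (F : Set G) :=
            hp.fix ⟨hy.1, centralizer_le (by exact_mod_cast hO) hy.2⟩
          exact (mem_centralizer_iff.1 h2 f hf).symm
        · rw [zpowers_le, mem_centralizer_singleton_iff]
          exact hfx.symm
      exact mem_centralizer_iff.2 fun y hy => mem_centralizer_singleton_iff.1 (h1 hy)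
  have hcZ : ∀ f ∈ F, (∀ x ∈ Z j, f * x = x * f) → f ∈ X := fun f hf h1 =>
    hcen z hz ⟨o, hO ho, hoz⟩ f hf (h1 z hz)
  -- the coordinates
  obtain ⟨c, hab, hfull⟩ := exists_ab D s.TS j (hall j)
  have hfull' : ∀ l : K, ∃ t ∈ T, Act (Wn M j) c t 1 l := fun l => by
    obtain ⟨b, hb, h1⟩ := hfull l
    exact ⟨b, hp.BT hb, h1⟩
  have hOT : ∀ t ∈ T, ∀ o ∈ o2 F, t * o * t⁻¹ ∈ o2 F := fun t ht o ho =>
    (mem_normalizer_iff.1 (le_normalizer_o2 F (hTF ht)) o).1 ho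
  have hmov : ∃ o ∈ o2 F, ∃ z ∈ Z j, o * z ≠ z * o := ⟨o, ho, z, hz, hoz⟩
  have hmovT : ∃ t ∈ T, ∃ z ∈ Z j, t * z ≠ z * t := ⟨o, hO ho, z, hz, hoz⟩
  -- the situation
  have hWV : Wn M j ≤ zl (S : Subgroup G) P := D.ln.fr.WV j
  have hVel := lam D hp
  have hLV : NoFF.Basic.V (Wn M j) F ≤ NoFF.Basic.V (zl (S : Subgroup G) P) F :=
    NoFF.Basic.V_le fun f hf => (cj_mono f hWV).trans (NoFF.Basic.Z_le_V hf)
  have hΛ : IsElementaryAbelian 2 (NoFF.Basic.V (Wn M j) F) := Swap.elab_mono hVel hLV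
  have hUF : Wn M j ≤ F := hWV.trans (hp.VO.trans (o2_le F))
  have hOne : Swap.Fam.One F T (F ⊓ X) 𝓐 (Wn M j) (fun _ : Unit => Wn M j) (fun _ : Unit => Z j) :=
    { syl := hp.syl
      TF₀ := le_inf hTF hTM
      F₀F := lt_of_le_of_ne inf_le_left fun e => hp.nM (inf_eq_left.1 e)
      max := fun K hTK hKF => le_inf hKF.le (hp.min K hTK hKF)
      fam := hfam _ hΛ (NoFF.Basic.V_le fun f hf => by
        have := cj_mono f hUF
        rwa [cj_eq_of_mem_normalizer (le_normalizer hf)] at this) OmThm.XD.X_le_normalizer_W hLV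
      nJ := hnJ
      ne := ⟨()⟩
      UO := hWV.trans hp.VO
      TU := fun t ht => by
        rw [mem_normalizer_iff_cj]
        exact D.W_cj (s.TS ht) (hall j t ht)
      comm := Swap.elab_comm hΛ
      sq := Swap.elab_sq hΛ
      sup := (iSup_const (ι := Unit)).symm
      H1 := fun _ f hf hfz => ⟨hf, hcZ f hf hfz⟩
      H2 := fun E hE hET _ => by
        obtain ⟨hEB, h1 | hbest⟩ := hA E hE hET
        · exact Or.inl fun a ha x hx => h1 a ha x (hWV hx)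
        · exact HThree.h2 D.ln.fr hEB hbest j
      H3 := fun _ => hab.h3 hO hOT hfull' hmov
      H4 := by
        rintro f ⟨hf, hfU⟩
        refine ⟨hf, ?_⟩
        have h1 := hab.h4 hO hOT hfull' hmov hK (f := f)
          (fun o ho => (mem_normalizer_iff.1 (le_normalizer_o2 F hf) o).1 ho) hfU
        refine SwapL.mem_of_cj_B_le S hSM hN (n := n) ?_
        rintro _ ⟨b, hb, rfl⟩
        have hbF : b ∈ F := hTF (hp.BT hb)
        refine hcZ _ (mul_mem (mul_mem hf hbF) (inv_mem hf)) fun x hx => ?_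
        rw [← h1] at hx
        obtain ⟨y, hy, rfl⟩ := hx
        have h2 := D.cB hb (D.ln.fr.Z_le j hy)
        show f * b * f⁻¹ * (f * y * f⁻¹) = f * y * f⁻¹ * (f * b * f⁻¹)
        have e1 : f * b * f⁻¹ * (f * y * f⁻¹) = f * (b * y) * f⁻¹ := by group
        have e2 : f * y * f⁻¹ * (f * b * f⁻¹) = f * (y * b) * f⁻¹ := by group
        rw [e1, e2, h2] }
  refine hOne.false_of_count ?_ (hab.cost_two hmovT hK)
  rintro x - ⟨hx, hxt⟩ f hf hfx
  exact ⟨hf, hcen x hx hxt f hf hfx⟩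

end Cfsg.Agent.Omega.OM.SWQ

end

section


/-!
# TI at the levels `n ≥ 0`, `|F| ≠ 4`

CASE II of THEOREM SWQ uses only `C_G(Z_J), N_G(B) ≤ X`.

* `exists_idx` : `q > 2`: a minimal parabolic over `T ≥ B` which moves `Ω₁Z(T)` is `⟨T, L'⟩`, `L'` a block of index `m`;
* `DtL.tiAll` : `Y ≤ Z_J` meets all `Z i` nontrivially: `C_G(Y) ≤ X` for every `X ≥ C_G(Z_J), N_G(B)`;
  `DtL.tiAll'` : `C_G(Y) ≤ N_G(Z_J)`;
* `DtL.tiL` : `i ≠ j`, `1 ≠ z ∈ Z i`: `C_G(z) ∩ ⋂ C_G(Z l) ≤ N_G(Z i)` (`l ≠ i, j`);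
* `DtL.ti_two` : `k = 2`: `TI (Z i)`.
-/

set_option autoImplicit false
set_option linter.unusedSectionVars false

namespace Cfsg.Agent.Omega.OM.SWQ

open Subgroup Cfsg Cfsg.Agent.ZN.ChoiceBase Cfsg.Agent.ZN.ChoiceSit
open Cfsg.Agent.ZN (jj zj bau zc zl o2)
open Cfsg.Agent.MinSimple.MinParabolic (IsMinPar)
open Cfsg.Agent.MinSimple.VModule (oddGen oddGen_le)
open Cfsg.Agent.Omega.FrameFF (cv)
open Cfsg.Agent.Omega.NO3S.OneLine (NatC)
open Cfsg.Agent.Omega.NO3S.Level (lev)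
open Cfsg.Agent.Omega.OM.Lev.Nat
open Cfsg.Agent.Omega.OM.LevD (LB K0)
open Cfsg.Agent.Omega.OM.SwapL (Ln BL ZL lb BM Pair Phi V_le_o2)
open Cfsg.Agent.Omega.Node.MultiOf (FBl)

universe u

variable {G : Type u} [Group G] [Finite G]

/-! ### Pairs inside `H` -/

section line

variable {ι : Type} [Finite ι] {S : Sylow 2 G} {P : Subgroup G} {n : ℕ} {L W Z C A : ι → Subgroup G} {q : ℕ}

/-- `BM` inside `H`. -/
def BMin (S : Sylow 2 G) (n : ℕ) (M H : Subgroup G) : Prop :=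
  ∀ T Y : Subgroup G, Syl T Y → BL (S : Subgroup G) n ≤ T → IsMinPar T Y → Y ≤ H →
    Y ⊓ centralizer (o2 Y : Set G) ≤ o2 Y → ¬ lev (S : Subgroup G) (n + 1) ≤ o2 Y →
    ¬ Y ≤ centralizer (zc T : Set G) → Y ≤ M

/-- **Existence of pairs** (`SwapL.exists_pair` with the block condition inside `H`). -/
theorem exists_pair_in (h : Ln S P n L W Z C A q) {M H : Subgroup G} (hBM : BMin S n M H)
    (hD : centralizer (ZL (S : Subgroup G) n : Set G) ≤ M) (hN : normalizer (BL (S : Subgroup G) n : Set G) ≤ M)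
    (hB : BL (S : Subgroup G) n ≤ H) (hc : H ⊓ centralizer (o2 H : Set G) ≤ o2 H) (hM : ¬ H ≤ M) :
    ∃ T F : Subgroup G, Pair S P n M T F ∧ F ≤ H := by
  have : Fact (Nat.Prime 2) := ⟨Nat.prime_two⟩
  obtain ⟨T₀, hT₀, hBT₀⟩ := exists_syl (lb S n).Bp hB
  have hK : K0 (ZL (S : Subgroup G) n) (fun _ _ => False) ≤ M := sup_le hD (iSup_le fun i => i.2.elim)
  have hsylY : ∀ Y : Subgroup G, IsMinPar T₀ Y → Y ≤ H → Syl T₀ Y := fun Y hY hYH =>
    ⟨hY.le, hT₀.2.1, fun Q hQ h2 hTQ => hT₀.2.2 Q (hQ.trans hYH) h2 hTQ⟩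
  have hcY' : ∀ Y : Subgroup G, IsMinPar T₀ Y → Y ≤ H → Y ⊓ centralizer (o2 Y : Set G) ≤ o2 Y := by
    intro Y hY hYH
    have h4 : o2 H ≤ o2 Y :=
      le_o2 (isPGroup_o2 H) ((o2_le_syl hT₀).trans hY.le) (hYH.trans (le_normalizer_o2 H))
    rintro x ⟨hx, hxc⟩
    exact h4 (hc ⟨hYH hx, centralizer_le (by exact_mod_cast h4) hxc⟩)
  have hKT : lev (S : Subgroup G) (n + 1) ≤ T₀ := (lb S n).KB.trans hBT₀
  have hfix : ∀ Y : Subgroup G, IsMinPar T₀ Y → Y ≤ H → LevD.FixPt (lev (S : Subgroup G) (n + 1)) T₀ Y :=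
    fun Y hY hYH => LevD.fixPt S (hsylY Y hY hYH) hKT hY
  have hg := LevB.genM (lb S n) hK hN hT₀ hBT₀ hc hfix
    fun Y hY hYH => hBM T₀ Y (hsylY Y hY hYH) hBT₀ hY hYH (hcY' Y hY hYH)
  -- the minimal parabolic `Y`
  obtain ⟨Y, ⟨hYm, hYH, hYK, hYc, -⟩, hYM⟩ : ∃ Y : Subgroup G, (IsMinPar T₀ Y ∧ Y ≤ H ∧
      ¬ lev (S : Subgroup G) (n + 1) ≤ o2 Y ∧
      Y ≤ centralizer (zc T₀ : Set G) ∧ ¬ o2 Y ≤ BL (S : Subgroup G) n) ∧ ¬ Y ≤ M := by
    by_contra hcon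
    push Not at hcon
    exact hM (hg.trans (sup_le inf_le_right (iSup_le fun Y => hcon Y.1 Y.2)))
  have hTM : T₀ ≤ M := ((lb S n).two_le hT₀.2.1 hBT₀).trans hN
  have hTY : Syl T₀ Y := hsylY Y hYm hYH
  have hcY := hcY' Y hYm hYH
  have hVY : zl (S : Subgroup G) P ≤ o2 Y := V_le_o2 h hT₀.2.1 hBT₀ hYm.le hYc
  -- `Y₁ = O²(Y) O₂(Y) B`
  set Y₁ : Subgroup G := oddGen Y ⊔ (o2 Y ⊔ BL (S : Subgroup G) n) with hY₁
  have hY₁Y : Y₁ ≤ Y := sup_le (oddGen_le Y) (sup_le (o2_le Y) (hBT₀.trans hYm.le))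
  have hOB : IsPGroup 2 (o2 Y ⊔ BL (S : Subgroup G) n : Subgroup G) :=
    hT₀.2.1.to_le (sup_le (o2_le_syl hTY) hBT₀)
  obtain ⟨T, hT, hOT⟩ := exists_syl hOB (le_sup_right : o2 Y ⊔ BL (S : Subgroup G) n ≤ Y₁)
  have hY₁M : ¬ Y₁ ≤ M := by
    intro hle
    apply hYM
    rw [← Dich.oddGen_sup_syl hTY]
    exact sup_le (le_sup_left.trans hle) hTM
  obtain ⟨F, hF⟩ := (Set.toFinite {K : Subgroup G | T ≤ K ∧ K ≤ Y₁ ∧ ¬ K ≤ M}).exists_minimal
    ⟨Y₁, hT.1, le_rfl, hY₁M⟩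
  obtain ⟨hTF, hFY₁, hFM⟩ := hF.prop
  have hFY : F ≤ Y := hFY₁.trans hY₁Y
  have hsyl : Syl T F := ⟨hTF, hT.2.1, fun Q hQ h2 hle => hT.2.2 Q (hQ.trans hFY₁) h2 hle⟩
  have hBT : BL (S : Subgroup G) n ≤ T := le_sup_right.trans hOT
  have hOF : o2 Y ≤ o2 F :=
    le_o2 (isPGroup_o2 Y) ((le_sup_left.trans hOT).trans hTF) (hFY.trans (le_normalizer_o2 Y))
  refine ⟨T, F, ⟨hsyl, hBT, hFM, fun K hTK hKF => ?_, hVY.trans hOF, ?_⟩, hFY.trans hYH⟩
  · by_contra hKM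
    exact hKF.not_ge (hF.le_of_le ⟨hTK, hKF.le.trans hFY₁, hKM⟩ hKF.le)
  · rintro z ⟨hz, hzc⟩
    have hzB : z ∈ BL (S : Subgroup G) n := (lb S n).ZB hz
    have hzO : ∀ y ∈ o2 Y, y * z = z * y := fun y hy => mem_centralizer_iff.1 hzc y (hOF hy)
    have hz1 : z ∈ zc (o2 Y) := by
      refine mem_zc.2 ⟨hcY ⟨hYm.le (hBT₀ hzB), mem_centralizer_iff.2 hzO⟩, (lb S n).sq z hz, hzO⟩
    have hz2 : z ∈ centralizer (oddGen Y : Set G) := hfix Y hYm hYH hYK hYc hz1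
    have hle : Y₁ ≤ centralizer ({z} : Set G) := by
      refine sup_le (fun y hy => ?_) (sup_le (fun y hy => ?_) fun y hy => ?_) <;>
        rw [mem_centralizer_singleton_iff]
      · exact mem_centralizer_iff.1 hz2 y hy
      · exact hzO y hy
      · exact (mem_centralizer_iff.1 ((lb S n).Bc hy) z hz).symm
    rw [mem_centralizer_iff]
    intro y hy
    exact mem_centralizer_singleton_iff.1 (hle (hFY₁ hy))

/-- **A minimal parabolic over `T ≥ B` which moves `Ω₁Z(T)` is `⟨T, L'⟩`, `L'` a block of index `i`.** -/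
theorem exists_idx (h : Ln S P n L W Z C A q) (hq : 2 < q) {T Y : Subgroup G} (hT : Syl T Y)
    (hB : BL (S : Subgroup G) n ≤ T) (hP : IsMinPar T Y) (hc : Y ⊓ centralizer (o2 Y : Set G) ≤ o2 Y)
    (hn : ¬ lev (S : Subgroup G) (n + 1) ≤ o2 Y) (hZ : ¬ Y ≤ centralizer (zc T : Set G)) :
    ∃ L' : Subgroup G, L' ≤ Y ∧ Y ≤ T ⊔ L' ∧ ∃ i, ∀ z ∈ ZL (S : Subgroup G) n,
      z ∈ C i ↔ ∀ l ∈ L', l * z = z * l := by
  have hK := Lev.Low.low_four h hq hT hB hP hc hZ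
  obtain ⟨L', V', h1, hF, hsup⟩ := LevB.exists_fblk S hT hB hP hc hK hn hZ
  obtain ⟨-, -, i, -, -, -, h2, -⟩ := TC.UniLev.uni_all S rfl rfl h.fr
    (⟨hF.fb, hF.blk⟩ : FBl (BL (S : Subgroup G) n) L' V')
  exact ⟨L', h1, hsup, i, h2⟩

end line

variable {S : Sylow 2 G} {P : Subgroup G} {n : ℕ} {F : Type} [Field F] [Finite F]
  [CharP F 2] {k : ℕ} {M : NatC F (S : Subgroup G) P (zl (S : Subgroup G) P) (cv (S : Subgroup G) P) k}
  {L Z A : Fin k → Subgroup G} (D : DtL S P n M L Z A)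

include D

namespace DtL

theorem not_mem_C {i : Fin k} {z : G} (hz : z ∈ Z i) (h1 : z ≠ 1) : z ∉ Cn M i := by
  intro hc
  have h2 : z ∈ Wn M i ⊓ Cn M i := mem_inf.2 ⟨D.Z_W i hz, hc⟩
  rw [D.ln.fr.dir i, mem_bot] at h2
  exact h1 h2

theorem Z_C {i j : Fin k} (hij : i ≠ j) : Z j ≤ Cn M i := (D.Z_W j).trans (D.ln.fr.WjC i j hij)

/-- an element of `N_G(Z_J)` which centralises an element `≠ 1` of `Z i` normalises `Z i`. -/
theorem norm_of_comm {g : G} (hg : g ∈ normalizer (ZL (S : Subgroup G) n : Set G)) {i : Fin k} {z : G}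
    (hz : z ∈ Z i) (h1 : z ≠ 1) (hc : g * z = z * g) : g ∈ normalizer (Z i : Set G) := by
  obtain ⟨d, hd, m, hm, rfl⟩ := (lb S n).exists_frattini hg
  obtain ⟨j, hj, -⟩ := (D.ln.norm hm).2 i
  have h3 : m * z * m⁻¹ ∈ Z j := by rw [← hj]; exact ⟨z, hz, rfl⟩
  have h4 : d * (m * z * m⁻¹) = m * z * m⁻¹ * d :=
    (mem_centralizer_iff.1 hd _ (D.ln.fr.Z_le j h3)).symm
  have h5 : m * z * m⁻¹ = z := by
    have e1 : d * m * z * (d * m)⁻¹ = z := by rw [hc]; group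
    have e2 : d * m * z * (d * m)⁻¹ = d * (m * z * m⁻¹) * d⁻¹ := by group
    rw [e2, h4] at e1
    have e3 : m * z * m⁻¹ * d * d⁻¹ = m * z * m⁻¹ := by group
    rwa [e3] at e1
  have h6 : i = j := D.Z_inj hz (h5 ▸ h3) h1
  refine mul_mem ?_ (mem_normalizer_iff_cj.2 (by rw [hj, ← h6]))
  exact centralizer_le_normalizer _ (centralizer_le (by exact_mod_cast D.ln.fr.Z_le i) hd)

/-- 2-groups over `B` which centralise an element `≠ 1` of every `Z i` fix all indices. -/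
theorem phi_of {T Y : Subgroup G} (hT : IsPGroup 2 T) (hB : BL (S : Subgroup G) n ≤ T)
    (hm : ∀ i, ∃ z ∈ Z i, z ≠ 1 ∧ z ∈ Y) (hTY : T ≤ centralizer (Y : Set G)) : ∀ i, i ∈ Phi Z T := by
  intro i t ht
  obtain ⟨z, hz, h1, hzY⟩ := hm i
  exact D.fix_of_comm ((lb S n).two_le hT hB ht) hz h1 (mem_centralizer_iff.1 (hTY ht) z hzY).symm

/-- inside `C_G(Y)`, `Y` meeting all `Z i`, there are no blocks -/
theorem bmin (hq : 2 < Nat.card F) {X Y : Subgroup G} (hm : ∀ i, ∃ z ∈ Z i, z ≠ 1 ∧ z ∈ Y) :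
    BMin S n X (centralizer (Y : Set G)) := by
  intro T R hT hB hP hRY hc hn hZ
  obtain ⟨L', h1, -, i, h2⟩ := exists_idx D.ln hq hT hB hP hc hn hZ
  obtain ⟨z, hz, hz1, hzY⟩ := hm i
  refine absurd ((h2 z (D.ln.fr.Z_le i hz)).2 fun l hl => ?_) (D.not_mem_C hz hz1)
  exact (mem_centralizer_iff.1 (hRY (h1 hl)) z hzY).symm

/-- the chosen pair -/
theorem exists_sel_all (hq : 2 < Nat.card F) {X Y : Subgroup G} (hY : Y ≤ ZL (S : Subgroup G) n)
    (hm : ∀ i, ∃ z ∈ Z i, z ≠ 1 ∧ z ∈ Y)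
    (hD : centralizer (ZL (S : Subgroup G) n : Set G) ≤ X) (hN : normalizer (BL (S : Subgroup G) n : Set G) ≤ X)
    (hX : ¬ centralizer (Y : Set G) ≤ X) : ∃ T R : Subgroup G, Sel D X T R ∧ ∀ i, i ∈ Phi Z T := by
  classical
  set J : Subgroup G := ZL (S : Subgroup G) n with hJ
  have hJ2 : IsPGroup 2 J := (lb S n).Bp.to_le (lb S n).ZB
  have hle : ∀ T : Subgroup G, Nat.card ↥(J ⊓ centralizer (T : Set G)) ≤ Nat.card J := fun T =>
    Subgroup.card_le_of_le inf_le_left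
  have hTN : ∀ T : Subgroup G, IsPGroup 2 T → BL (S : Subgroup G) n ≤ T →
      T ≤ normalizer (BL (S : Subgroup G) n : Set G) := fun T hT hB => (lb S n).two_le hT hB
  -- the pair of a centraliser
  have key : ∀ Y : Subgroup G, Y ≤ J → (∀ i, ∃ z ∈ Z i, z ≠ 1 ∧ z ∈ Y) → ¬ centralizer (Y : Set G) ≤ X →
      ∃ T' F' : Subgroup G, (Pair S P n X T' F' ∧ ∀ i, i ∈ Phi Z T') ∧ T' ≤ centralizer (Y : Set G) := by
    intro Y hYJ hY1 hcon
    have hYne : Y ≠ ⊥ := by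
      rintro rfl
      obtain ⟨z, hz, h1, h2⟩ := hY1 ⟨0, D.k_pos⟩
      exact h1 (mem_bot.1 h2)
    have hBY : BL (S : Subgroup G) n ≤ centralizer (Y : Set G) :=
      (lb S n).Bc.trans (centralizer_le (by exact_mod_cast hYJ))
    obtain ⟨T', F', hp', hle'⟩ := exists_pair_in D.ln (D.bmin hq hY1) hD hN hBY
      (Swap.char2_cent D.ln.hyp.ctx.char2 (hJ2.to_le hYJ) hYne) hcon
    have hT'Y := hp'.syl.1.trans hle'
    exact ⟨T', F', ⟨hp', D.phi_of hp'.syl.2.1 hp'.BT hY1 hT'Y⟩, hT'Y⟩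
  let μ : Subgroup G → ℕ := fun T => Nat.card ↥(J ⊓ centralizer (T : Set G))
  let s : Set ℕ := {m | ∃ T F : Subgroup G, (Pair S P n X T F ∧ ∀ i, i ∈ Phi Z T) ∧ μ T = m}
  have hs1 : s.Nonempty := by
    obtain ⟨T, F, hp, -⟩ := key Y hY hm hX
    exact ⟨_, T, F, hp, rfl⟩
  have hs2 : s.Finite := by
    refine (Set.finite_Iic (Nat.card J)).subset ?_
    rintro m ⟨T, F, -, rfl⟩
    exact Set.mem_Iic.2 (hle T)
  obtain ⟨m₀, hm₀⟩ := hs2.exists_maximal hs1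
  obtain ⟨T₀, F₀, ⟨hp₀, hall₀⟩, hμ₀⟩ := hm₀.prop
  have hmax : ∀ T F : Subgroup G, Pair S P n X T F → (∀ i, i ∈ Phi Z T) → μ T ≤ μ T₀ := by
    intro T F hp hall
    rw [hμ₀]
    by_contra hcon
    push Not at hcon
    exact absurd (hm₀.le_of_ge ⟨T, F, ⟨hp, hall⟩, rfl⟩ hcon.le) (by omega)
  -- conjugate into `S`
  have hsyl : Syl (S : Subgroup G) (normalizer (BL (S : Subgroup G) n : Set G)) :=
    ZN.CaseTwo.syl_of_sylow S (hTN _ S.isPGroup' D.BS)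
  obtain ⟨T₁, hT₁, hTT₁⟩ := exists_syl hp₀.syl.2.1 (hTN _ hp₀.syl.2.1 hp₀.BT)
  obtain ⟨m, hm', hmS⟩ := syl_conj hT₁ hsyl
  have hTS : cj m T₀ ≤ (S : Subgroup G) := by
    rw [← hmS]
    exact cj_mono m hTT₁
  have hp := pair_cj D.ln hN hp₀ hm'
  have hall : ∀ i, i ∈ Phi Z (cj m T₀) := by
    intro i t ht
    rw [mem_cj] at ht
    obtain ⟨j, hj, -⟩ := (D.ln.norm (inv_mem hm')).2 i
    have h1 : cj (m⁻¹ * t * m) (Z j) = Z j := hall₀ j _ ht
    have h2 : Z i = cj m (Z j) := by rw [← hj, cj_cj_inv]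
    rw [h2, cj_cj]
    conv_rhs => rw [← h1]
    rw [cj_cj]
    congr 1
    group
  have hμ : μ T₀ ≤ μ (cj m T₀) := by
    have h1 : J ⊓ centralizer ((cj m T₀ : Subgroup G) : Set G) = cj m (J ⊓ centralizer (T₀ : Set G)) := by
      rw [cj_inf, cj_centralizer, hJ, cj_eq_of_mem_normalizer ((lb S n).norm_B_le hm')]
    simp only [μ]
    rw [h1, card_cj]
  generalize cj m T₀ = T at hTS hp hμ hall
  generalize cj m F₀ = K at hp
  refine ⟨T, K, ⟨hp, hTS, ?_, ?_⟩, hall⟩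
  · rintro Y' hYJ hPhi ⟨j, hj, hjY⟩
    exact absurd (hall j) hj
  · intro hall' Y' hYJ hlt
    by_contra hcon
    have hne : ∀ i, ∃ z ∈ Z i, z ≠ 1 ∧ z ∈ Y' := by
      intro i
      obtain ⟨z, hz, h1, hzT⟩ := exists_fix hp.syl.2.1 (D.bg.Z_two i) (D.Z_ne_bot i) fun t ht =>
        mem_normalizer_iff_cj.2 (hall i t ht)
      exact ⟨z, hz, h1, hlt.le ⟨D.ln.fr.Z_le i hz, hzT⟩⟩
    obtain ⟨T', F', ⟨hp', hall'⟩, hT'Y⟩ := key Y' hYJ hne hcon
    have h3 := (hmax T' F' hp' hall').trans hμ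
    have h5 : Nat.card ↥(J ⊓ centralizer (T : Set G)) < Nat.card Y' := by
      refine lt_of_le_of_ne (Subgroup.card_le_of_le hlt.le) fun e => ?_
      exact hlt.ne (Subgroup.eq_of_le_of_card_ge hlt.le e.ge)
    have h6 : Nat.card Y' ≤ Nat.card ↥(J ⊓ centralizer (T' : Set G)) :=
      Subgroup.card_le_of_le (le_inf hYJ (le_centralizer_iff.1 hT'Y))
    simp only [μ] at h3
    omega

/-- **(T1)** `Y ≤ Z_J` meets all `Z i` nontrivially: `C_G(Y) ≤ X` for all `X ≥ C_G(Z_J), N_G(B)`; `q ≠ 2, 4`. -/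
theorem tiAll (hq2 : 2 < Nat.card F) (hq : Nat.card F ≠ 4) {X Y : Subgroup G} (hY : Y ≤ ZL (S : Subgroup G) n)
    (hm : ∀ i, ∃ z ∈ Z i, z ≠ 1 ∧ z ∈ Y)
    (hD : centralizer (ZL (S : Subgroup G) n : Set G) ≤ X) (hN : normalizer (BL (S : Subgroup G) n : Set G) ≤ X) :
    centralizer (Y : Set G) ≤ X := by
  by_contra hX
  obtain ⟨T, R, hs, hall⟩ := D.exists_sel_all hq2 hY hm hD hN hX
  exact caseTwo D hs hD hN hall hq

/-- `|F| = 2`: `Y` meeting all `Z i` contains `Z_J`. -/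
theorem le_of_two (hq2 : Nat.card F = 2) {Y : Subgroup G} (hm : ∀ i, ∃ z ∈ Z i, z ≠ 1 ∧ z ∈ Y) :
    ZL (S : Subgroup G) n ≤ Y := by
  have h1 : ZL (S : Subgroup G) n ≤ ⨆ i ∈ (Finset.univ : Finset (Fin k)), Z i := by
    intro x hx
    refine ModQ.W_inf_ZJ D.ln.fr _ x ?_ hx
    have h3 : x ∈ zl (S : Subgroup G) P := D.ln.fr.ZJV hx
    rw [D.ln.fr.V_eq] at h3
    have e : (⨆ i ∈ (Finset.univ : Finset (Fin k)), Wn M i) = ⨆ i, Wn M i := by simp
    rw [e]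
    exact h3
  refine h1.trans (iSup₂_le fun i _ y hy => ?_)
  obtain ⟨z, hz, hz1, hzY⟩ := hm i
  by_cases hy1 : y = 1
  · rw [hy1]; exact one_mem _
  · have h2 : Nat.card (Z i) = 2 := by rw [D.ln.fr.cardZ i, hq2]
    rwa [UniPlus.eq_of_card_two h2 hy hz hy1 hz1]

/-- **(T1)** `Y ≤ Z_J` meets all `Z i` nontrivially: `C_G(Y) ≤ N_G(Z_J)`; `q ≠ 4`. -/
theorem tiAll' (hq : Nat.card F ≠ 4) {Y : Subgroup G} (hY : Y ≤ ZL (S : Subgroup G) n)
    (hm : ∀ i, ∃ z ∈ Z i, z ≠ 1 ∧ z ∈ Y) :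
    centralizer (Y : Set G) ≤ normalizer (ZL (S : Subgroup G) n : Set G) := by
  rcases Nat.lt_or_ge 2 (Nat.card F) with h | h
  · exact D.tiAll h hq hY hm (centralizer_le_normalizer _) (lb S n).norm_B_le
  · have h2 : Nat.card F = 2 := le_antisymm h (Finite.one_lt_card)
    exact (centralizer_le (by exact_mod_cast D.le_of_two h2 hm)).trans (centralizer_le_normalizer _)

/-- **(T2) from (T1).** -/
theorem tiL_of (hq : 2 < Nat.card F)
    (hF : ∀ Y : Subgroup G, Y ≤ ZL (S : Subgroup G) n → (∀ i, ∃ z ∈ Z i, z ≠ 1 ∧ z ∈ Y) →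
      centralizer (Y : Set G) ≤ normalizer (ZL (S : Subgroup G) n : Set G))
    {i j : Fin k} (hij : i ≠ j) {z : G} (hz : z ∈ Z i) (hz1 : z ≠ 1) :
    centralizer ({z} : Set G) ⊓ (⨅ l : {l : Fin k // l ≠ i ∧ l ≠ j}, centralizer (Z l : Set G)) ≤
      normalizer (Z i : Set G) := by
  classical
  set H : Subgroup G := centralizer ({z} : Set G) ⊓
    (⨅ l : {l : Fin k // l ≠ i ∧ l ≠ j}, centralizer (Z l : Set G)) with hH
  have hHz : ∀ x ∈ H, x * z = z * x := fun x hx => mem_centralizer_singleton_iff.1 hx.1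
  have hHl : ∀ x ∈ H, ∀ l, l ≠ i → l ≠ j → ∀ y ∈ Z l, x * y = y * x := fun x hx l h1 h2 y hy =>
    (mem_centralizer_iff.1 ((mem_iInf.1 hx.2) ⟨l, h1, h2⟩) y hy).symm
  -- `H` is a centraliser
  set η : Subgroup G := zpowers z ⊔ ⨆ l : {l : Fin k // l ≠ i ∧ l ≠ j}, Z l with hη
  have hηJ : η ≤ ZL (S : Subgroup G) n :=
    sup_le (by rw [zpowers_le]; exact D.ln.fr.Z_le i hz) (iSup_le fun l => D.ln.fr.Z_le l)
  have hηH : centralizer (η : Set G) = H := by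
    apply le_antisymm
    · refine le_inf (centralizer_le ?_) (le_iInf fun l => centralizer_le ?_)
      · rw [Set.singleton_subset_iff]
        exact mem_sup_left (mem_zpowers z)
      · exact_mod_cast le_sup_of_le_right (le_iSup (fun l : {l : Fin k // l ≠ i ∧ l ≠ j} => Z l) l)
    · intro x hx
      have h1 : η ≤ centralizer ({x} : Set G) := by
        refine sup_le ?_ (iSup_le fun l y hy => ?_)
        · rw [zpowers_le, mem_centralizer_singleton_iff]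
          exact (hHz x hx).symm
        · rw [mem_centralizer_singleton_iff]
          exact (hHl x hx l l.2.1 l.2.2 y hy).symm
      exact mem_centralizer_iff.2 fun y hy => mem_centralizer_singleton_iff.1 (h1 hy)
  have hJ2 : IsPGroup 2 (ZL (S : Subgroup G) n) := (lb S n).Bp.to_le (lb S n).ZB
  have hη1 : η ≠ ⊥ := by
    intro e
    have h1 : z ∈ η := mem_sup_left (mem_zpowers z)
    rw [e, mem_bot] at h1
    exact hz1 h1
  have hc : H ⊓ centralizer (o2 H : Set G) ≤ o2 H := by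
    rw [← hηH]
    exact Swap.char2_cent D.ln.hyp.ctx.char2 (hJ2.to_le hηJ) hη1
  have hBH : BL (S : Subgroup G) n ≤ H := by
    rw [← hηH]
    exact (lb S n).Bc.trans (centralizer_le (by exact_mod_cast hηJ))
  obtain ⟨T₀, hT₀, hBT₀⟩ := exists_syl (lb S n).Bp hBH
  have hKT : lev (S : Subgroup G) (n + 1) ≤ T₀ := (lb S n).KB.trans hBT₀
  have hTN : T₀ ≤ normalizer (BL (S : Subgroup G) n : Set G) := (lb S n).two_le hT₀.2.1 hBT₀
  have hJn : ∀ g ∈ H, g ∈ normalizer (ZL (S : Subgroup G) n : Set G) → g ∈ normalizer (Z i : Set G) :=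
    fun g hg h => D.norm_of_comm h hz hz1 (hHz g hg)
  -- `T₀` fixes all indices
  have hTi : ∀ t ∈ T₀, cj t (Z i) = Z i := fun t ht =>
    D.fix_of_comm (hTN ht) hz hz1 (hHz t (hT₀.1 ht))
  have hTj : ∀ t ∈ T₀, cj t (Z j) = Z j := by
    intro t ht
    obtain ⟨m, hm, -⟩ := (D.ln.norm (hTN ht)).2 j
    have h1 : ∀ l, cj t (Z l) = Z l → m = l → l = j := by
      rintro l h1 rfl
      apply D.Z_inj'
      rw [← cj_inv_cj t (Z m), h1, ← hm, cj_inv_cj]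
    rw [hm]
    by_cases e : m = j
    · rw [e]
    exfalso
    by_cases e' : m = i
    · exact hij (h1 i (hTi t ht) e')
    · refine e (h1 m ?_ rfl)
      obtain ⟨y, hy, hy1⟩ := D.exists_Z m
      exact D.fix_of_comm (hTN ht) hy hy1 (hHl t (hT₀.1 ht) m e' e y hy)
  obtain ⟨y, hy, hy1, hyT⟩ := exists_fix hT₀.2.1 (D.bg.Z_two j) (D.Z_ne_bot j) fun t ht =>
    mem_normalizer_iff_cj.2 (hTj t ht)
  refine MinSimple.MinParabolic.le_of_forall hT₀.1 ?_ fun R hR hRH => ?_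
  · rintro g ⟨hg, hgT⟩
    exact hJn g hg ((lb S n).nrm T₀ hT₀.2.1 hKT hgT)
  by_cases hlev : lev (S : Subgroup G) (n + 1) ≤ o2 R
  · exact fun g hg => hJn g (hRH hg) ((lb S n).nrm _ (isPGroup_o2 R) hlev (le_normalizer_o2 R hg))
  by_cases hZ : R ≤ centralizer (zc T₀ : Set G)
  · have hyZ : y ∈ zc T₀ := by
      have h1 := D.ln.fr.Z_le j hy
      exact mem_zc.2 ⟨hBT₀ ((lb S n).ZB h1), (lb S n).sq y h1, fun t ht => mem_centralizer_iff.1 hyT t ht⟩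
    have hRη : R ≤ centralizer ((η ⊔ zpowers y : Subgroup G) : Set G) := by
      intro r hr
      have h1 : η ⊔ zpowers y ≤ centralizer ({r} : Set G) := by
        refine sup_le (fun x hx => ?_) ?_
        · rw [← hηH] at hRH
          exact mem_centralizer_singleton_iff.2 (mem_centralizer_iff.1 (hRH hr) x hx)
        · rw [zpowers_le, mem_centralizer_singleton_iff]
          exact mem_centralizer_iff.1 (hZ hr) y hyZ
      exact mem_centralizer_iff.2 fun x hx => mem_centralizer_singleton_iff.1 (h1 hx)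
    have h2 := hF (η ⊔ zpowers y) (sup_le hηJ (by rw [zpowers_le]; exact D.ln.fr.Z_le j hy)) fun l => by
      by_cases hl : l = i
      · subst hl
        exact ⟨z, hz, hz1, mem_sup_left (mem_sup_left (mem_zpowers z))⟩
      by_cases hl' : l = j
      · subst hl'
        exact ⟨y, hy, hy1, mem_sup_right (mem_zpowers y)⟩
      obtain ⟨x, hx, hx1⟩ := D.exists_Z l
      exact ⟨x, hx, hx1, mem_sup_left (mem_sup_right
        ((le_iSup (fun l : {l : Fin k // l ≠ i ∧ l ≠ j} => Z l) ⟨l, hl, hl'⟩) hx))⟩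
    exact fun g hg => hJn g (hRH hg) (h2 (hRη hg))
  -- the block
  have hsyl : Syl T₀ R := ⟨hR.le, hT₀.2.1, fun Q hQ h2 hTQ => hT₀.2.2 Q (hQ.trans hRH) h2 hTQ⟩
  have hcR : R ⊓ centralizer (o2 R : Set G) ≤ o2 R := by
    have h4 : o2 H ≤ o2 R :=
      le_o2 (isPGroup_o2 H) ((o2_le_syl hT₀).trans hR.le) (hRH.trans (le_normalizer_o2 H))
    rintro x ⟨hx, hxc⟩
    exact h4 (hc ⟨hRH hx, centralizer_le (by exact_mod_cast h4) hxc⟩)
  obtain ⟨L', h1, h2, m, h3⟩ := exists_idx D.ln hq hsyl hBT₀ hR hcR hlev hZ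
  have hmi : m ≠ i := by
    rintro rfl
    exact D.not_mem_C hz hz1 ((h3 z (D.ln.fr.Z_le m hz)).2 fun l hl => hHz l (hRH (h1 hl)))
  have hmj : m = j := by
    by_contra hmj
    obtain ⟨x, hx, hx1⟩ := D.exists_Z m
    exact D.not_mem_C hx hx1 ((h3 x (D.ln.fr.Z_le m hx)).2 fun l hl => hHl l (hRH (h1 hl)) m hmi hmj x hx)
  refine h2.trans (sup_le (fun t ht => mem_normalizer_iff_cj.2 (hTi t ht)) ?_)
  refine le_trans (fun l hl => ?_) (centralizer_le_normalizer _)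
  exact mem_centralizer_iff.2 fun x hx => ((h3 x (D.ln.fr.Z_le i hx)).1 (D.Z_C hmi hx) l hl).symm

/-- **(T2)** `i ≠ j`, `1 ≠ z ∈ Z i`: `C_G(z) ∩ ⋂ C_G(Z l) ≤ N_G(Z i)` (`l ≠ i, j`), `q ≠ 4`. -/
theorem tiL (hq : Nat.card F ≠ 4) {i j : Fin k} (hij : i ≠ j) {z : G} (hz : z ∈ Z i) (hz1 : z ≠ 1) :
    centralizer ({z} : Set G) ⊓ (⨅ l : {l : Fin k // l ≠ i ∧ l ≠ j}, centralizer (Z l : Set G)) ≤
      normalizer (Z i : Set G) := by
  rcases Nat.lt_or_ge 2 (Nat.card F) with h | h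
  · exact D.tiL_of h (fun Y hY hm => D.tiAll' hq hY hm) hij hz hz1
  · have h2 : Nat.card F = 2 := le_antisymm h (Finite.one_lt_card)
    refine inf_le_left.trans (le_trans (fun g hg => ?_) (centralizer_le_normalizer _))
    refine mem_centralizer_iff.2 fun x hx => ?_
    by_cases hx1 : x = 1
    · rw [hx1]; simp
    have h3 : Nat.card (Z i) = 2 := by rw [D.ln.fr.cardZ i, h2]
    rw [UniPlus.eq_of_card_two h3 hx hz hx1 hz1]
    exact (mem_centralizer_singleton_iff.1 hg).symm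

end DtL

end Cfsg.Agent.Omega.OM.SWQ

end

section


/-!
# TI at the levels for `Mul`

* `exists_dtl_mul` : the frame of `Mul` at stage `n ≥ 0` is the frame of `DtL` up to a permutation of the indices;
* `Mul.tiAll_lev`, `Mul.tiL_lev`, `Mul.ti_lev` (`k = 2`) : `q ≠ 4`.
-/

set_option autoImplicit false
set_option linter.unusedSectionVars false

namespace Cfsg.Agent.Omega.OM.SWQ

open Subgroup Cfsg Cfsg.Agent.ZN.ChoiceBase Cfsg.Agent.ZN.ChoiceSit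
open Cfsg.Agent.ZN (jj zj bau zc zl o2)
open Cfsg.Agent.Omega.FrameFF (cv)
open Cfsg.Agent.Omega.NO3S.OneLine (NatC)
open Cfsg.Agent.Omega.NO3S.Level (lev)
open Cfsg.Agent.Omega.NO3S.EThree.Frame (Bg TI)
open Cfsg.Agent.Omega.OM.Lev.Nat
open Cfsg.Agent.Omega.OM.SwapL (Ln BL ZL lb)
open Cfsg.Agent.Omega.Node.MultiOf (FBl Mul StgP)

universe u

variable {G : Type u} [Group G] [Finite G]

/-- `TI` from the centralisers. -/
theorem ti_of_cent {S : Sylow 2 G} {P B ZJ : Subgroup G} {ι : Type} {L W Z C : ι → Subgroup G} {q : ℕ}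
    (h : Bg S P B ZJ L W Z C q) {i : ι}
    (hc : ∀ z ∈ Z i, z ≠ 1 → centralizer ({z} : Set G) ≤ normalizer (Z i : Set G)) : TI (Z i) := by
  intro g hg
  obtain ⟨x, hx, hx1⟩ : ∃ x ∈ cj g (Z i) ⊓ Z i, x ≠ 1 := by
    by_contra hcon
    push Not at hcon
    exact hg ((eq_bot_iff_forall _).2 hcon)
  obtain ⟨⟨y, hy, e⟩, hxZ⟩ := hx
  have e' : g * y * g⁻¹ = x := e
  have hy1 : y ≠ 1 := by
    rintro rfl
    exact hx1 (by rw [← e']; group)
  obtain ⟨t, htL, htB, ht⟩ := h.tor i hy hy1 hxZ hx1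
  have htZ : t ∈ normalizer (Z i : Set G) := by
    rw [mem_normalizer_iff_cj]
    refine Subgroup.eq_of_le_of_card_ge ?_ (by rw [card_cj])
    rintro _ ⟨v, hv, rfl⟩
    exact h.L_inf_norm i htL htB hv
  have h1 : g * t⁻¹ ∈ normalizer (Z i : Set G) := by
    refine hc x hxZ hx1 (mem_centralizer_singleton_iff.2 ?_)
    have h2 : g * t⁻¹ * x * (g * t⁻¹)⁻¹ = x := by
      rw [← ht]
      have : g * t⁻¹ * (t * y * t⁻¹) * (g * t⁻¹)⁻¹ = g * y * g⁻¹ := by group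
      rw [this, e', ht]
    exact mul_inv_eq_iff_eq_mul.1 h2
  have h3 := mul_mem h1 htZ
  rw [inv_mul_cancel_right] at h3
  exact mem_normalizer_iff_cj.1 h3

/-- **The frame of `Mul` at stage `n ≥ 0` is the frame of `DtL` up to a permutation.** -/
theorem exists_dtl_mul {S : Sylow 2 G} {P K B ZJ : Subgroup G} {k : ℕ} {L W Z C : Fin k → Subgroup G} {q : ℕ}
    (h : Mul S P K B ZJ L W Z C q) (hk : 2 ≤ k) (hJ : jj (S : Subgroup G) ≤ o2 P) :
    ∃ (n : ℕ) (F : Type) (_ : Field F) (_ : Finite F) (_ : CharP F 2)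
      (M : NatC F (S : Subgroup G) P (zl (S : Subgroup G) P) (cv (S : Subgroup G) P) k)
      (L' Z' A' : Fin k → Subgroup G) (σ : Equiv.Perm (Fin k)), Nat.card F = q ∧
        K = lev (S : Subgroup G) (n + 1) ∧ ZJ = ZL (S : Subgroup G) n ∧ B = BL (S : Subgroup G) n ∧
          DtL S P n M L' Z' A' ∧ ∀ i, Z i = Z' (σ i) := by
  obtain ⟨F, _, _, _, hF, ⟨N⟩⟩ := h.nat
  obtain ⟨n, hn, hn1, hK, hB, hZJ⟩ : ∃ n, lev (S : Subgroup G) n ≤ o2 P ∧ ¬ lev (S : Subgroup G) (n + 1) ≤ o2 P ∧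
      K = lev (S : Subgroup G) (n + 1) ∧ B = BL (S : Subgroup G) n ∧ ZJ = ZL (S : Subgroup G) n := by
    cases h.stg with
    | neg h1 => exact absurd hJ h1
    | lev n _ hn hn1 => exact ⟨n, hn, hn1, rfl, rfl, rfl⟩
  obtain ⟨M, L', Z', A', -, D⟩ := exists_dtl h.hyp.toHypN hn hn1 hk N
  have key : ∀ i, ∃ j, Z i = Z' j := by
    intro i
    have h1 := h.fbl i
    rw [hB] at h1
    obtain ⟨Z'', h2, j, h3, -⟩ := TC.UniLev.uni_all S rfl rfl D.ln.fr h1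
    refine ⟨j, ?_⟩
    rw [← h3]
    have h4 := h.bg.fr.blk i
    rw [hB] at h4
    ext z
    rw [h4.toMd.mem_Z_iff, h2.toMd.mem_Z_iff]
    exact Iff.rfl
  choose σ hσ using key
  have hinj : Function.Injective σ := fun i j e => h.bg.Z_inj (by rw [hσ i, hσ j, e])
  exact ⟨n, F, inferInstance, inferInstance, inferInstance, M, L', Z', A',
    Equiv.ofBijective σ (Finite.injective_iff_bijective.1 hinj), hF, hK, hZJ, hB, D, hσ⟩

section mul

variable {S : Sylow 2 G} {P K B ZJ : Subgroup G} {k : ℕ} {L W Z C : Fin k → Subgroup G} {q : ℕ}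

/-- **(T1)** for `Mul`, stage `n ≥ 0`, `q ≠ 4`. -/
theorem _root_.Cfsg.Agent.Omega.Node.MultiOf.Mul.tiAll_lev (h : Mul S P K B ZJ L W Z C q) (hk : 2 ≤ k)
    (hJ : jj (S : Subgroup G) ≤ o2 P) (hq : q ≠ 4) {Y : Subgroup G} (hY : Y ≤ ZJ)
    (hm : ∀ i, ∃ z ∈ Z i, z ≠ 1 ∧ z ∈ Y) : centralizer (Y : Set G) ≤ normalizer (ZJ : Set G) := by
  obtain ⟨n, F, _, _, _, M, L', Z', A', σ, hF, -, rfl, rfl, D, hσ⟩ := exists_dtl_mul h hk hJ
  refine D.tiAll' (by rw [hF]; exact hq) hY fun i => ?_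
  have h1 := hm (σ.symm i)
  rwa [hσ, Equiv.apply_symm_apply] at h1

/-- **(T2)** for `Mul`, stage `n ≥ 0`, `q ≠ 4`. -/
theorem _root_.Cfsg.Agent.Omega.Node.MultiOf.Mul.tiL_lev (h : Mul S P K B ZJ L W Z C q) (hk : 2 ≤ k)
    (hJ : jj (S : Subgroup G) ≤ o2 P) (hq : q ≠ 4) {i j : Fin k} (hij : i ≠ j) {z : G} (hz : z ∈ Z i)
    (hz1 : z ≠ 1) :
    centralizer ({z} : Set G) ⊓ (⨅ l : {l : Fin k // l ≠ i ∧ l ≠ j}, centralizer (Z l : Set G)) ≤
      normalizer (Z i : Set G) := by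
  obtain ⟨n, F, _, _, _, M, L', Z', A', σ, hF, -, rfl, rfl, D, hσ⟩ := exists_dtl_mul h hk hJ
  rw [hσ i] at hz ⊢
  have h1 := D.tiL (by rw [hF]; exact hq) (fun e => hij (σ.injective e)) hz hz1 (j := σ j)
  refine le_trans (inf_le_inf_left _ ?_) h1
  refine le_iInf fun l => ?_
  obtain ⟨m, hm⟩ := σ.surjective l.1
  have h2 : m ≠ i ∧ m ≠ j := ⟨fun e => l.2.1 (by rw [← hm, e]), fun e => l.2.2 (by rw [← hm, e])⟩
  refine (iInf_le (fun l : {l : Fin k // l ≠ i ∧ l ≠ j} => centralizer (Z l : Set G)) ⟨m, h2⟩).trans ?_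
  show centralizer (Z m : Set G) ≤ _
  rw [hσ m, hm]

/-- **`TI (Z i)`**, `k = 2`, stage `n ≥ 0`, `q ≠ 4`. -/
theorem _root_.Cfsg.Agent.Omega.Node.MultiOf.Mul.ti_lev {L W Z C : Fin 2 → Subgroup G}
    (h : Mul S P K B ZJ L W Z C q) (hJ : jj (S : Subgroup G) ≤ o2 P) (hq : q ≠ 4) (i : Fin 2) : TI (Z i) := by
  refine ti_of_cent h.bg fun z hz hz1 => ?_
  obtain ⟨j, hj⟩ := h.bg.two i
  refine le_trans (le_inf le_rfl (le_iInf fun l => ?_)) (h.tiL_lev le_rfl hJ hq (j := j) (Ne.symm hj) hz hz1)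
  have h1 : ∀ a b c : Fin 2, a ≠ b → a ≠ c → b ≠ c → False := by decide
  exact (h1 _ _ _ l.2.1 l.2.2 (Ne.symm hj)).elim

end mul

end Cfsg.Agent.Omega.OM.SWQ

end
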