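import Cfsg.Agent.Mrg.Omega.OM.SWQ.CaseTwoD
import Cfsg.Agent.Mrg.Omega.OM.SWQ.CaseFour
import Cfsg.Agent.Mrg.Omega.OM.FourF.OneF
import Cfsg.Agent.Mrg.Omega.NO3S.EThree.Row7
import Cfsg.Agent.Mrg.Omega.OM.SwapL.Off
import Cfsg.Agent.Mrg.Omega.OM.Lev.Low.LowMain
import Cfsg.Agent.Mrg.Omega.OM.Lev.Main

section


/-!
# TI at the levels `n ≥ 0`, `|F| = 4`, outside (4F)

* `DtL.card_semi` : `s ∈ S` semilinear on `W i`, trivial on `Z j` (`j ≠ i`): `|Z_J| = 2 |C_{Z_J}(s)|`;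
* `DtL.tiAll4`, `DtL.tiAllF` : all the `Z i` are TI in `Z_J`, or (4F), any `q > 2`;
* `Mul.tiAll_levF`, `Mul.tiL_levF`, `Mul.ti_levF` : the same for `Mul` (the last: the socket of row (7)
  at the levels).
-/

set_option autoImplicit false
set_option linter.unusedSectionVars false

namespace Cfsg.Agent.Omega.OM.SWQ

open Subgroup Cfsg Cfsg.Agent.ZN.ChoiceBase Cfsg.Agent.ZN.ChoiceSit
open Cfsg.Agent.ZN (jj zj bau zc zl o2)
open Cfsg.Agent.Omega.FrameFF (cv)
open Cfsg.Agent.Omega.NO3S.OneLine (NatC)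
open Cfsg.Agent.Omega.NO3S.Level (lev)
open Cfsg.Agent.Omega.NO3S.EThree.Frame (Bg TI)
open Cfsg.Agent.Omega.NO3S.EThree.Row7 (FourF)
open Cfsg.Agent.Omega.OM.Lev.Nat
open Cfsg.Agent.Omega.OM.SwapL (Ln BL ZL lb Pair Phi)
open Cfsg.Agent.Omega.OM.FourF (MD Thr OneF Lin Sem conjW)
open Cfsg.Agent.Omega.OM.SWQ.CaseFour (exists_u sl oneF)
open Cfsg.Agent.Omega.OM.SWQ.CaseTwo (ZL_le)
open Cfsg.Agent.Omega.Node.MultiOf (FBl Mul StgP)
open Cfsg.Agent.MinSimple.VModule (oddGen)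

universe u

variable {G : Type u} [Group G] [Finite G] {S : Sylow 2 G} {P : Subgroup G} {n : ℕ} {F : Type} [Field F] [Finite F]
  [CharP F 2] {k : ℕ} {M : NatC F (S : Subgroup G) P (zl (S : Subgroup G) P) (cv (S : Subgroup G) P) k}
  {L Z A : Fin k → Subgroup G} (D : DtL S P n M L Z A)

include D

namespace DtL

variable {z₀ f₀ : Fin k → F}

/-- `s` semilinear on `W i`, trivial on the other `Z j`. -/
theorem card_semi (m : MD M.nat (BL (S : Subgroup G) n) (ZL (S : Subgroup G) n) (Wn M) Z z₀ f₀)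
    (hq : Nat.card F = 4) {i : Fin k} {s : G} (hs : s ∈ (S : Subgroup G)) (hsi : cj s (Z i) = Z i)
    (hc : ∀ j, j ≠ i → ∀ z ∈ Z j, s * z = z * s) {l : F}
    (hA : FourF.Act (Wn M i) (MD.co M.nat z₀ f₀ i) s (fun p => (p.1 * p.1 + l * (p.2 * p.2), p.2 * p.2))) :
    Nat.card (ZL (S : Subgroup G) n) = 2 * Nat.card ↥(ZL (S : Subgroup G) n ⊓ centralizer ({s} : Set G)) := by
  have key : (centralizer ({s} : Set G)).relIndex (ZL (S : Subgroup G) n) = 2 := by
    have hsW : s ∈ normalizer (Wn M i : Set G) := m.nW hs hsi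
    -- the criterion on `Z i`
    have cr : ∀ x ∈ Z i, (x ∈ centralizer ({s} : Set G) ↔
        (MD.co M.nat z₀ f₀ i x).1 ^ 2 = (MD.co M.nat z₀ f₀ i x).1) := by
      intro x hx
      obtain ⟨hxW, hx2⟩ := m.co_Z.1 hx
      rw [mem_centralizer_singleton_iff]
      have h1 := hA x hxW
      simp only [hx2, mul_zero, add_zero] at h1
      constructor
      · intro h2
        have h3 : s * x * s⁻¹ = x := by rw [← h2]; group
        rw [h3] at h1
        have h4 := congrArg Prod.fst h1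
        rw [pow_two]
        exact h4.symm
      · intro h2
        have h3 : s * x * s⁻¹ = x := by
          refine m.co_inj (conjW hsW hxW) hxW ?_
          rw [h1, ← pow_two, h2]
          exact Prod.ext rfl hx2.symm
        calc x * s = s * x * s⁻¹ * s := by rw [h3]
          _ = s * x := by group
    obtain ⟨w, hw⟩ := FourF.exists_w hq
    obtain ⟨a, haW, hae⟩ := m.co_surj i (w, 0)
    have haZ : a ∈ Z i := m.co_Z.2 ⟨haW, by rw [hae]⟩
    have hZJ : ∀ x ∈ Z i, x ∈ ZL (S : Subgroup G) n := fun x hx => D.ln.fr.Z_le i hx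
    rw [relIndex_eq_two_iff]
    refine ⟨a, hZJ a haZ, fun b hb => ?_⟩
    have hVc : ∀ x ∈ ZL (S : Subgroup G) n, ∀ y ∈ ZL (S : Subgroup G) n, x * y = y * x := fun x hx y hy =>
      D.ln.fr.Vc (D.ln.fr.ZJV hx) (D.ln.fr.ZJV hy)
    obtain ⟨x, hx, c, hc', rfl⟩ : ∃ x ∈ Z i, ∃ c ∈ (centralizer ({s} : Set G) ⊓ ZL (S : Subgroup G) n : Subgroup G),
        b = x * c := by
      have h1 : b ∈ Z i ⊔ (centralizer ({s} : Set G) ⊓ ZL (S : Subgroup G) n) := by
        have h2 := ZL_le D hb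
        refine (iSup_le fun j => ?_ : (⨆ j, Z j) ≤ Z i ⊔ (centralizer ({s} : Set G) ⊓ ZL (S : Subgroup G) n)) h2
        by_cases hj : j = i
        · rw [hj]; exact le_sup_left
        · refine le_sup_of_le_right fun z hz => mem_inf.2 ⟨?_, D.ln.fr.Z_le j hz⟩
          exact mem_centralizer_singleton_iff.2 (hc j hj z hz).symm
      exact SQ1.Bau.mem_sup_comm (fun x hx y hy => hVc x (hZJ x hx) y (mem_inf.1 hy).2) h1
    have hcs : c ∈ centralizer ({s} : Set G) := hc'.1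
    have e1 : x * c * a = x * a * c := by
      rw [mul_assoc, hVc c hc'.2 a (hZJ a haZ), mul_assoc]
    have h2 : x * c * a ∈ centralizer ({s} : Set G) ↔ x * a ∈ centralizer ({s} : Set G) := by
      rw [e1]
      exact Subgroup.mul_mem_cancel_right _ hcs
    have h3 : x * c ∈ centralizer ({s} : Set G) ↔ x ∈ centralizer ({s} : Set G) :=
      Subgroup.mul_mem_cancel_right _ hcs
    have hmul : (MD.co M.nat z₀ f₀ i (x * a)).1 = (MD.co M.nat z₀ f₀ i x).1 + w := by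
      rw [m.co_mul (m.WV (m.co_Z.1 hx).1) (m.WV haW), hae]
      rfl
    rw [h2, h3, cr x hx, cr (x * a) (mul_mem hx haZ), hmul, FourF.sq_add hq, hw]
    generalize (MD.co M.nat z₀ f₀ i x).1 = t
    have k1 := FourF.two_eq hq t
    rcases FourF.tr_cases hq t with h4 | h4
    · refine Or.inr ⟨by linear_combination h4 - k1, fun h5 => ?_⟩
      have : (1 : F) = 0 := by linear_combination h5 - h4 + k1
      exact one_ne_zero this
    · refine Or.inl ⟨?_, fun h5 => ?_⟩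
      · have k2 := FourF.two_eq hq (1 : F)
        linear_combination h4 - k1 + k2
      · have : (1 : F) = 0 := by linear_combination h5 - h4 + k1
        exact one_ne_zero this
  have h1 := Swap.card_mul_relIndex (inf_le_left : ZL (S : Subgroup G) n ⊓ centralizer ({s} : Set G) ≤ _)
  rw [inf_comm, inf_relIndex_right, key] at h1
  rw [← h1, inf_comm, mul_comm]

/-- **(T1), `q = 4`**: `C_G(Y) ≤ N_G(Z_J)` or (4F). -/
theorem tiAll4 (hq : Nat.card F = 4) {Y : Subgroup G} (hY : Y ≤ ZL (S : Subgroup G) n)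
    (hm : ∀ i, ∃ z ∈ Z i, z ≠ 1 ∧ z ∈ Y) :
    centralizer (Y : Set G) ≤ normalizer (ZL (S : Subgroup G) n : Set G) ∨
      FourF (BL (S : Subgroup G) n) (ZL (S : Subgroup G) n) (Nat.card F) := by
  classical
  by_contra hcon
  push Not at hcon
  obtain ⟨hX, hnF⟩ := hcon
  have hD : centralizer (ZL (S : Subgroup G) n : Set G) ≤ normalizer (ZL (S : Subgroup G) n : Set G) :=
    centralizer_le_normalizer _
  have hN := (lb S n).norm_B_le
  obtain ⟨T, R, hs, hall⟩ := D.exists_sel_all (by omega) hY hm hD hN hX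
  obtain ⟨z₀, f₀, m⟩ := D.exists_md
  have hp := hs.pair
  have hTS := hs.TS
  have hZ : ∀ i, ∀ t ∈ T, cj t (Z i) = Z i := fun i t ht => hall i t ht
  choose u hu hue huY using exists_u D m hp hTS hZ hq
  have ht : Thr R T (⊤ : Subgroup G) (Wn M) Z u (MD.co M.nat z₀ f₀) :=
    { card := hq
      syl := hp.syl
      TM := le_top
      co := fun i => m.toCo (hu i) (hue i)
      TN := fun i t ht => m.nW (hTS ht) (hZ i t ht)
      act := fun i t ht => m.act4 hq (hTS ht) (hZ i t ht)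
      full := fun i l => by
        obtain ⟨b, hb, h1⟩ := m.full i l
        exact ⟨b, hp.BT hb, h1⟩
      sl := sl D m (fun _ => le_top) le_top
      NM := fun _ _ => mem_top _
      Xu := huY
      fix := fun i hi x hx z hz => by
        have h2 : z ∈ centralizer (R : Set G) :=
          hp.fix ⟨D.ln.fr.Z_le i hz, mem_centralizer_iff.2 fun o ho => hi o ho z hz⟩
        exact mem_centralizer_iff.1 h2 x hx }
  have hor : ∀ i, R ≤ normalizer (Wn M i : Set G) ∨ ∀ x ∈ oddGen R, ∀ z ∈ Z i, x * z = z * x := by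
    intro i
    obtain ⟨𝓐, h1⟩ := oneF D m hp hTS hZ hq hD hN (hu i) (hue i) (huY i)
    have hfix : o2 R ≤ centralizer (Z i : Set G) → R ≤ centralizer (Z i : Set G) := by
      intro hi x hx
      refine mem_centralizer_iff.2 fun z hz => ?_
      have h3 : z ∈ centralizer (R : Set G) :=
        hp.fix ⟨D.ln.fr.Z_le i hz, mem_centralizer_iff.2 fun o ho => (mem_centralizer_iff.1 (hi ho) z hz).symm⟩
      exact (mem_centralizer_iff.1 h3 x hx).symm
    rcases h1.main hfix with h2 | h2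
    · right
      intro x hx z hz
      exact (mem_centralizer_iff.1 (h2 hx) z hz).symm
    · exact Or.inl h2
  have hfull : ∀ i (l : F), ∃ t ∈ T, FourF.Act (Wn M i) (MD.co M.nat z₀ f₀ i) t (fun p => (p.1 + l * p.2, p.2)) ∧
      ∀ j, j ≠ i → ∀ w ∈ Wn M j, t * w = w * t := by
    intro i l
    obtain ⟨b, hb, hc⟩ := m.cn.full fun j => if j = i then l else 0
    have hbT := hp.BT hb
    refine ⟨b, hbT, fun w hw => ?_, fun j hj w hw => ?_⟩
    · obtain ⟨h1, h2⟩ := hc w (m.WV hw) i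
      rw [if_pos rfl] at h1
      exact Prod.ext h1 h2
    · have h3 : b * w * b⁻¹ = w := by
        refine m.co_inj (conjW (m.nW (hTS hbT) (hZ j b hbT)) hw) hw ?_
        obtain ⟨h1, h2⟩ := hc w (m.WV hw) j
        rw [if_neg hj, zero_mul, add_zero] at h1
        exact Prod.ext h1 h2
      exact mul_inv_eq_iff_eq_mul.1 h3
  have hnor := ht.nor_of_not hor hfull fun i s hsT hsc l hA => hnF ?_
  · apply hp.nM
    intro r hr
    have e : ZL (S : Subgroup G) n = ⨆ i, Z i := le_antisymm (ZL_le D) (iSup_le D.ln.fr.Z_le)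
    rw [mem_normalizer_iff_cj, e, Swap.cj_iSup]
    exact iSup_congr fun i => mem_normalizer_iff_cj.1 (hnor i hr)
  · obtain ⟨a, ha⟩ := (S.isPGroup' ⟨s, hTS hsT⟩)
    refine ⟨hq, s, (lb S n).two_le hp.syl.2.1 hp.BT hsT, ⟨a, ?_⟩, D.card_semi m hq (hTS hsT) (hZ i s hsT) hsc hA⟩
    exact congrArg Subtype.val ha

/-- **(T1), `q > 2`**: `C_G(Y) ≤ N_G(Z_J)` or (4F). -/
theorem tiAllF {Y : Subgroup G} (hY : Y ≤ ZL (S : Subgroup G) n)
    (hm : ∀ i, ∃ z ∈ Z i, z ≠ 1 ∧ z ∈ Y) :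
    centralizer (Y : Set G) ≤ normalizer (ZL (S : Subgroup G) n : Set G) ∨
      FourF (BL (S : Subgroup G) n) (ZL (S : Subgroup G) n) (Nat.card F) := by
  by_cases hq : Nat.card F = 4
  · exact D.tiAll4 hq hY hm
  · exact Or.inl (D.tiAll' hq hY hm)

end DtL

omit D

section mul

variable {S : Sylow 2 G} {P K B ZJ : Subgroup G} {k : ℕ} {L W Z C : Fin k → Subgroup G} {q : ℕ}

/-- **(T1)** for `Mul`, stage `n ≥ 0`, `q > 2`, or (4F). -/
theorem _root_.Cfsg.Agent.Omega.Node.MultiOf.Mul.tiAll_levF (h : Mul S P K B ZJ L W Z C q) (hk : 2 ≤ k)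
    (hJ : jj (S : Subgroup G) ≤ o2 P) {Y : Subgroup G} (hY : Y ≤ ZJ)
    (hm : ∀ i, ∃ z ∈ Z i, z ≠ 1 ∧ z ∈ Y) : centralizer (Y : Set G) ≤ normalizer (ZJ : Set G) ∨ FourF B ZJ q := by
  obtain ⟨n, F, _, _, _, M, L', Z', A', σ, hF, -, rfl, rfl, D, hσ⟩ := exists_dtl_mul h hk hJ
  rw [← hF]
  refine D.tiAllF hY fun i => ?_
  have h1 := hm (σ.symm i)
  rwa [hσ, Equiv.apply_symm_apply] at h1

/-- **(T2)** for `Mul`, stage `n ≥ 0`, `q > 2`, or (4F). -/
theorem _root_.Cfsg.Agent.Omega.Node.MultiOf.Mul.tiL_levF (h : Mul S P K B ZJ L W Z C q) (hk : 2 ≤ k)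
    (hJ : jj (S : Subgroup G) ≤ o2 P) (hq : 2 < q) (hno : ¬ FourF B ZJ q) {i j : Fin k} (hij : i ≠ j) {z : G}
    (hz : z ∈ Z i) (hz1 : z ≠ 1) :
    centralizer ({z} : Set G) ⊓ (⨅ l : {l : Fin k // l ≠ i ∧ l ≠ j}, centralizer (Z l : Set G)) ≤
      normalizer (Z i : Set G) := by
  obtain ⟨n, F, _, _, _, M, L', Z', A', σ, hF, -, rfl, rfl, D, hσ⟩ := exists_dtl_mul h hk hJ
  rw [hσ i] at hz ⊢
  have h1 := D.tiL_of (by rw [hF]; exact hq)
    (fun Y hY hm => (D.tiAllF hY hm).resolve_right (by rw [hF]; exact hno))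
    (fun e => hij (σ.injective e)) hz hz1 (j := σ j)
  refine le_trans (inf_le_inf_left _ ?_) h1
  refine le_iInf fun l => ?_
  obtain ⟨m, hm⟩ := σ.surjective l.1
  have h2 : m ≠ i ∧ m ≠ j := ⟨fun e => l.2.1 (by rw [← hm, e]), fun e => l.2.2 (by rw [← hm, e])⟩
  refine (iInf_le (fun l : {l : Fin k // l ≠ i ∧ l ≠ j} => centralizer (Z l : Set G)) ⟨m, h2⟩).trans ?_
  show centralizer (Z m : Set G) ≤ _
  rw [hσ m, hm]

/-- **`TI (Z i)` or (4F)**, `k = 2`, stage `n ≥ 0`, `q > 2`. -/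
theorem _root_.Cfsg.Agent.Omega.Node.MultiOf.Mul.ti_levF {L W Z C : Fin 2 → Subgroup G}
    (h : Mul S P K B ZJ L W Z C q) (hJ : jj (S : Subgroup G) ≤ o2 P) (hq : 2 < q) :
    (∀ i : Fin 2, TI (Z i)) ∨ FourF B ZJ q := by
  by_cases hno : FourF B ZJ q
  · exact Or.inr hno
  left
  intro i
  refine ti_of_cent h.bg fun z hz hz1 => ?_
  obtain ⟨j, hj⟩ := h.bg.two i
  refine le_trans (le_inf le_rfl (le_iInf fun l => ?_)) (h.tiL_levF le_rfl hJ hq hno (j := j) (Ne.symm hj) hz hz1)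
  have h1 : ∀ a b c : Fin 2, a ≠ b → a ≠ c → b ≠ c → False := by decide
  exact (h1 _ _ _ l.2.1 l.2.2 (Ne.symm hj)).elim

end mul

end Cfsg.Agent.Omega.OM.SWQ

end

section


/-!
# THEOREM SWQ (#21705): (Om) at the levels is impossible for `q ≥ 4`

* `le_of_char2` : every subgroup of characteristic 2 over `B` is contained in every
  `X ≥ C_G(Z_J), L_i, N_G(B)`; for `q = 4` modulo the conclusion of (4F);
* `FourLev` : (4F) at the levels; `nloc_q`; `omLev_big` : `OmLev K (4 < q)`; `omLev_q : FourLev → OmLev K (4 ≤ q)`.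
-/

set_option autoImplicit false
set_option linter.unusedSectionVars false

namespace Cfsg.Agent.Omega.OM.SWQ

open Subgroup Cfsg Cfsg.Agent.ZN.ChoiceBase Cfsg.Agent.ZN.ChoiceSit
open Cfsg.Agent.ZN (jj zj bau zc zl o2)
open Cfsg.Agent.Omega.FFThm (NatK NatKM)
open Cfsg.Agent.Omega.FrameFF (cv)
open Cfsg.Agent.Omega.Frame (Cls)
open Cfsg.Agent.Omega.NO3S (HypN HypL)
open Cfsg.Agent.Omega.NO3S.OneLine (NatC)
open Cfsg.Agent.Omega.NO3S.Level (lev)
open Cfsg.Agent.Omega.OM.Lev.Nat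
open Cfsg.Agent.Omega.OM.LevD (K0 Fam)
open Cfsg.Agent.Omega.OM.SwapL (Ln BL ZL lb BM BG Pair Phi)
open Cfsg.Agent.Omega.Node.MultiOf (FBl KZ NLoc OmLev)

universe u

section

variable {G : Type u} [Group G] [Finite G] {S : Sylow 2 G} {P : Subgroup G} {n : ℕ}
  {K : Type} [Field K] [Finite K] [CharP K 2] {k : ℕ}
  {M : NatC K (S : Subgroup G) P (zl (S : Subgroup G) P) (cv (S : Subgroup G) P) k}
  {L Z A : Fin k → Subgroup G} (D : DtL S P n M L Z A)

include D

/-- **THEOREM SWQ.** -/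
theorem le_of_char2 {X H : Subgroup G} (hBM : BM S n X) (hLM : ∀ i, L i ≤ X)
    (hD : centralizer (ZL (S : Subgroup G) n : Set G) ≤ X) (hN : normalizer (BL (S : Subgroup G) n : Set G) ≤ X)
    (hK : 4 ≤ Nat.card K)
    (h4 : Nat.card K = 4 → ∀ T F : Subgroup G, Sel D X T F → (∀ i, i ∈ Phi Z T) → False)
    (hB : BL (S : Subgroup G) n ≤ H) (hc : H ⊓ centralizer (o2 H : Set G) ≤ o2 H) : H ≤ X := by
  by_contra hM
  obtain ⟨T, F, s⟩ := exists_sel D hBM hD hN hB hc hM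
  have hall := phi_univ D s hLM hD hN hK
  by_cases hq : Nat.card K = 4
  · exact h4 hq T F s hall
  · exact caseTwo D s hD hN hall hq

/-- **(Om) is impossible at stage `n`, `q ≥ 4`.** -/
theorem noOm (hn1 : ¬ lev (S : Subgroup G) (n + 1) ≤ o2 P)
    (hF : Fam (BL (S : Subgroup G) n) (ZL (S : Subgroup G) n) (FBl (BL (S : Subgroup G) n)))
    (hL : ∀ i, L i ≤ KZ (BL (S : Subgroup G) n) (ZL (S : Subgroup G) n)) (hK : 4 ≤ Nat.card K)
    (h4 : Nat.card K = 4 → ∀ X T Y : Subgroup G, Sel D X T Y → P ≤ X →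
      centralizer (ZL (S : Subgroup G) n : Set G) ≤ X → normalizer (BL (S : Subgroup G) n : Set G) ≤ X →
        (∀ i, i ∈ Phi Z T) → False) : NLoc (KZ (BL (S : Subgroup G) n) (ZL (S : Subgroup G) n)) := by
  have h := D.ln
  have hBG : BG S n (FBl (BL (S : Subgroup G) n)) := Lev.Low.bg_four h (by omega) fun _ _ h1 => ⟨h1.fb, h1.blk⟩
  by_contra hcon
  unfold NLoc at hcon
  push Not at hcon
  obtain ⟨R, hR, hRn, hR1⟩ := hcon
  obtain ⟨ho, hoB, hle⟩ := hF.dich (lb S n) hR hR1 hRn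
  set O : Subgroup G := o2 (K0 (ZL (S : Subgroup G) n) (FBl (BL (S : Subgroup G) n))) with hO
  set X : Subgroup G := normalizer (O : Set G) with hX
  have hKX : K0 (ZL (S : Subgroup G) n) (FBl (BL (S : Subgroup G) n)) ≤ X := le_sup_left.trans hle
  have hN : normalizer (BL (S : Subgroup G) n : Set G) ≤ X := le_sup_right.trans hle
  have hSX : (S : Subgroup G) ≤ X := ((lb S n).two_le S.isPGroup' (lb S n).BS).trans hN
  have hBM : BM S n X := hBG.bm hKX hN
  have hLX : ∀ i, L i ≤ X := fun i => (hL i).trans hKX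
  have hDX : centralizer (ZL (S : Subgroup G) n : Set G) ≤ X := LevD.cent_le_K0.trans hKX
  have hS1 : (S : Subgroup G) ≠ ⊥ := h.hyp.ctx.sylow_ne_bot S
  have h1 := MinPar.isLoc_centralizer_zc S hS1
  have hP : P ≤ X := by
    have h3 := hBG S P h.hyp.toHyp.syl (lb S n).BS h.hyp.star.toIsMinPar
      (h.hyp.star.isLoc.char2 S h.hyp.ctx.char2) hn1
      (fun hc => h.hyp.star.not_zc (hc.trans (centralizer_le_normalizer _)))
    exact h3.trans (sup_le hKX hSX)
  have h2 : FrameNOFF.CZ (S : Subgroup G) ≤ X :=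
    le_of_char2 D hBM hLX hDX hN hK (fun hq T Y s h3 => h4 hq X T Y s hP hDX hN h3) ((lb S n).BS.trans h1.le)
      (h1.char2 S h.hyp.ctx.char2)
  exact ho (h.hyp.nonLoc _ (isPGroup_o2 _) hP h2)

end

/-- **(4F) at the levels.** -/
def FourLev : Prop :=
  ∀ (G : Type u) [Group G] [Finite G] (S : Sylow 2 G) (P : Subgroup G) (n k : ℕ) (K : Type) [Field K] [Finite K]
    [CharP K 2] (M : NatC K (S : Subgroup G) P (zl (S : Subgroup G) P) (cv (S : Subgroup G) P) k)
    (L Z A : Fin k → Subgroup G) (D : DtL S P n M L Z A), Nat.card K = 4 → ∀ X T Y : Subgroup G, Sel D X T Y →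
      P ≤ X → centralizer (ZL (S : Subgroup G) n : Set G) ≤ X →
        normalizer (BL (S : Subgroup G) n : Set G) ≤ X → (∀ i, i ∈ Phi Z T) → False

theorem nloc_q {G : Type u} [Group G] [Finite G] {S : Sylow 2 G} {P : Subgroup G} {k : ℕ} (h : HypL S P) {n : ℕ}
    (hall : ∀ R, MinPar.IsParS (S : Subgroup G) R → lev (S : Subgroup G) n ≤ o2 R)
    (hn1 : ¬ lev (S : Subgroup G) (n + 1) ≤ o2 P) (hk : 2 ≤ k)
    {F : Type} [Field F] [Finite F] [CharP F 2] (hF : 4 ≤ Nat.card F)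
    (hf : Nat.card F = 4 → FourLev.{u})
    (N : NatKM F (S : Subgroup G) P (zl (S : Subgroup G) P) (cv (S : Subgroup G) P) k) :
    NLoc (KZ (BL (S : Subgroup G) n) (ZL (S : Subgroup G) n)) := by
  obtain ⟨M, L, Z, A, -, D⟩ := exists_dtl h.toHypN (hall P h.star) hn1 hk N
  have hm : Node.MultiOf.Mul S P (lev (S : Subgroup G) (n + 1)) (BL (S : Subgroup G) n) (ZL (S : Subgroup G) n)
      L _ Z _ (Nat.card F) :=
    ⟨h, Node.MultiOf.StgP.lev n hall (hall P h.star) hn1, D.bg, F, inferInstance, inferInstance, inferInstance, rfl,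
      ⟨N⟩⟩
  exact noOm D hn1 hm.fam hm.L_le hF fun hq X T Y s h1 h2 h3 h4 =>
    hf hq G S P n k F M L Z A D hq X T Y s h1 h2 h3 h4

/-- **(Om), stage `n`, `q > 4`.** -/
theorem omLev_big {K : Cls.{u}} : OmLev K fun _ q => 4 < q := by
  intro G _ _ hK S P k h n hall hn1 hk F _ _ _ hF N B ZJ hZJ hB ho
  subst hZJ hB
  exact absurd (nloc_q h hall hn1 hk hF.le (fun e => absurd e (by omega)) N _ (isPGroup_o2 _)
    (le_normalizer_o2 _)) ho

/-- **(Om), stage `n`, `q ≥ 4`**, modulo (4F) at the levels. -/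
theorem omLev_q {K : Cls.{u}} (hf : FourLev.{u}) : OmLev K fun _ q => 4 ≤ q := by
  intro G _ _ hK S P k h n hall hn1 hk F _ _ _ hF N B ZJ hZJ hB ho
  subst hZJ hB
  exact absurd (nloc_q h hall hn1 hk hF (fun _ => hf) N _ (isPGroup_o2 _) (le_normalizer_o2 _)) ho

end Cfsg.Agent.Omega.OM.SWQ

end

section


/-!
# Theorem SWQ: (Om) at the stages `n ≥ 0`, `q ≥ 4`

* `fourLev : FourLev`: (4F) at the levels;
* `omLev : OmLev K (fun _ q => 4 ≤ q)`.
-/

set_option autoImplicit false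

namespace Cfsg.Agent.Omega.OM.SWQ

open Subgroup Cfsg
open Cfsg.Agent.Omega.Frame (Cls)
open Cfsg.Agent.Omega.Node.MultiOf (OmLev)

universe u

/-- **(4F) at the levels.** -/
theorem fourLev : FourLev.{u} := by
  intro G _ _ S P n k K _ _ _ M L Z A D hq X T Y hs hP hD hN hPhi
  exact D.case_four hs (fun i l hl => hP (D.LX i hl).1) hD hN hPhi hq

/-- **(Om), stage `n`, `q ≥ 4`.** -/
theorem omLev {K : Cls.{u}} : OmLev K fun _ q => 4 ≤ q :=
  omLev_q fourLev

end Cfsg.Agent.Omega.OM.SWQ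

end
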